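import Groth.Agent.AdeqLib.Closure

/-!
# Change of rings for adequate functors
-/

set_option backward.isDefEq.respectTransparency false

universe u

open CategoryTheory Limits TensorProduct

namespace Groth.Agent.AdeqLib

open Adeq

variable {A : Type u} [CommRing A] {A' : Type u} [CommRing A'] [Algebra A A']

section Restr

variable (B' : Alg A')

/-- The algebra `B'` over `A`. -/
noncomputable abbrev rB : Alg A := (Alg.restr A A').obj B'

/-- The cancellation map `B' ⊗_{A'} (A' ⊗_A M) ≃ B' ⊗_A M`, for the composite algebra structure. -/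
noncomputable def restrEquiv (M : ModuleCat.{u + 1} A) :
    (B' : Type u) ⊗[A'] (A' ⊗[A] M) ≃ₗ[(B' : Type u)]
      (rB (A := A) B' : Type u) ⊗[A] M :=
  letI : Algebra A (B' : Type u) := ((algebraMap A' (B' : Type u)).comp (algebraMap A A')).toAlgebra
  haveI : IsScalarTower A A' (B' : Type u) := IsScalarTower.of_algebraMap_eq fun _ => rfl
  AlgebraTensorModule.cancelBaseChange A A' (B' : Type u) (B' : Type u) M

theorem restrEquiv_tmul (M : ModuleCat.{u + 1} A) (b : B') (m : M) :
    restrEquiv B' M (b ⊗ₜ[A'] ((1 : A') ⊗ₜ[A] m)) = (show (rB (A := A) B' : Type u) from b) ⊗ₜ[A] m := by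
  unfold restrEquiv
  rw [AlgebraTensorModule.cancelBaseChange_tmul, one_smul]

theorem restrEquiv_baseChange {M N : ModuleCat.{u + 1} A} (f : M ⟶ N)
    (y : (B' : Type u) ⊗[A'] (A' ⊗[A] M)) :
    restrEquiv B' N ((f.hom.baseChange A').baseChange (B' : Type u) y) =
      f.hom.baseChange (rB (A := A) B' : Type u) (restrEquiv B' M y) := by
  induction y using TensorProduct.induction_on with
  | zero => simp
  | add x y hx hy => simp [hx, hy]
  | tmul b z =>
    induction z using TensorProduct.induction_on with
    | zero => simp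
    | add x y hx hy => rw [tmul_add, map_add, map_add, hx, hy, map_add, map_add]
    | tmul a m =>
      have : (b ⊗ₜ[A'] (a ⊗ₜ[A] m) : (B' : Type u) ⊗[A'] (A' ⊗[A] M)) = (a • b) ⊗ₜ[A'] ((1 : A') ⊗ₜ[A] m) := by
        rw [TensorProduct.smul_tmul, TensorProduct.smul_tmul', smul_eq_mul, mul_one]
      rw [this, LinearMap.baseChange_tmul, LinearMap.baseChange_tmul, restrEquiv_tmul, restrEquiv_tmul,
        LinearMap.baseChange_tmul]

theorem restrEquiv_nat {M : ModuleCat.{u + 1} A} {C' : Alg A'} (h : B' ⟶ C')
    (y : (B' : Type u) ⊗[A'] (A' ⊗[A] M)) :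
    restrEquiv C' M (h.hom.toLinearMap.rTensor _ y) =
      ((Alg.restr A A').map h).hom.toLinearMap.rTensor M (restrEquiv B' M y) := by
  induction y using TensorProduct.induction_on with
  | zero => simp
  | add x y hx hy => simp [hx, hy]
  | tmul b z =>
    induction z using TensorProduct.induction_on with
    | zero => simp
    | add x y hx hy => rw [tmul_add, map_add, map_add, hx, hy, map_add, map_add]
    | tmul a m =>
      have : (b ⊗ₜ[A'] (a ⊗ₜ[A] m) : (B' : Type u) ⊗[A'] (A' ⊗[A] M)) = (a • b) ⊗ₜ[A'] ((1 : A') ⊗ₜ[A] m) := by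
        rw [TensorProduct.smul_tmul, TensorProduct.smul_tmul', smul_eq_mul, mul_one]
      rw [this, LinearMap.rTensor_tmul, restrEquiv_tmul, restrEquiv_tmul, LinearMap.rTensor_tmul]
      rfl

end Restr

theorem adequate_restr {F : MVF A} (hF : adequate A F) :
    adequate A' ((Adeq.restr A A').obj F) := by
  obtain ⟨M, N, f, i, hi⟩ := exists_isKerU hF
  let M' : ModuleCat.{u + 1} A' := ModuleCat.of A' (A' ⊗[A] M)
  let N' : ModuleCat.{u + 1} A' := ModuleCat.of A' (A' ⊗[A] N)
  let f' : M' ⟶ N' := ModuleCat.ofHom (f.hom.baseChange A')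
  let j : (Adeq.restr A A').obj F ⟶ uobj M' := mvfHomMk
    (fun B' =>
      { toFun := fun x => (restrEquiv B' M).symm (i.app (pt ((Alg.restr A A').obj B')) x)
        map_add' := fun x y => by
          exact (congrArg _ (app_add i (B := (Alg.restr A A').obj B') x y)).trans (map_add _ _ _)
        map_smul' := fun b x => by
          exact (congrArg _ (app_smul i (B := (Alg.restr A A').obj B') b x)).trans
            ((restrEquiv B' M).symm.map_smul b _) })
    (fun B' C' h x => by
      refine (restrEquiv C' M).injective ?_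
      refine ((restrEquiv C' M).apply_symm_apply _).trans ?_
      refine Eq.trans ?_ (restrEquiv_nat B' h _).symm
      refine (IsKerU.nat i ((Alg.restr A A').map h) x).trans ?_
      exact congrArg _ ((restrEquiv B' M).apply_symm_apply _).symm)
  refine adequate_of_isKerU (i := j) (f := f')
    ⟨fun B' x y hxy => hi.inj _ ((restrEquiv B' M).symm.injective hxy), fun B' y => ?_⟩
  rw [← (restrEquiv B' N).map_eq_zero_iff]
  refine (Iff.of_eq (congrArg (· = 0) (restrEquiv_baseChange B' f y))).trans
    ((hi.iff ((Alg.restr A A').obj B') (restrEquiv B' M y)).trans (exists_congr fun x => ?_))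
  exact ⟨fun h => ((congrArg _ h).trans ((restrEquiv B' M).symm_apply_apply y)),
    fun h => ((restrEquiv B' M).apply_symm_apply _).symm.trans (congrArg _ h)⟩

section Push

variable (B : Alg A) (M' : ModuleCat.{u + 1} A')

/-- Restriction of scalars of a module. -/
noncomputable abbrev resMod : ModuleCat.{u + 1} A := (ModuleCat.restrictScalars (algebraMap A A')).obj M'

/-- The map `B ⊗_A M' → (A' ⊗_A B) ⊗_{A'} M'`. -/
noncomputable def pushEquiv :
    (B : Type u) ⊗[A] resMod (A := A) M' ≃ₗ[A] (A' ⊗[A] (B : Type u)) ⊗[A'] M' :=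
  letI : Module A M' := Module.compHom _ (algebraMap A A')
  haveI : IsScalarTower A A' M' := IsScalarTower.of_algebraMap_smul fun _ _ => rfl
  (TensorProduct.comm A (B : Type u) M').trans
    (((AlgebraTensorModule.cancelBaseChange A A' A' M' (B : Type u)).symm.trans
      (TensorProduct.comm A' M' (A' ⊗[A] (B : Type u)))).restrictScalars A)

theorem pushEquiv_tmul (b : B) (m : M') :
    pushEquiv B M' (b ⊗ₜ[A] (m : resMod (A := A) M')) = ((1 : A') ⊗ₜ[A] b) ⊗ₜ[A'] m := by
  unfold pushEquiv
  rfl

theorem pushEquiv_smul (b : B) (y : (B : Type u) ⊗[A] resMod (A := A) M') :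
    pushEquiv B M' (b • y) = ((1 : A') ⊗ₜ[A] b) • pushEquiv B M' y := by
  induction y using TensorProduct.induction_on with
  | zero => simp
  | add x y hx hy => simp [hx, hy]
  | tmul c m =>
    rw [TensorProduct.smul_tmul', pushEquiv_tmul, pushEquiv_tmul, TensorProduct.smul_tmul',
      smul_eq_mul, smul_eq_mul, Algebra.TensorProduct.tmul_mul_tmul, one_mul]

theorem pushEquiv_nat {C : Alg A} (h : B ⟶ C) (y : (B : Type u) ⊗[A] resMod (A := A) M') :
    pushEquiv C M' (h.hom.toLinearMap.rTensor _ y) =
      ((Alg.baseChange A A').map h).hom.toLinearMap.rTensor M' (pushEquiv B M' y) := by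
  induction y using TensorProduct.induction_on with
  | zero => simp
  | add x y hx hy => rw [map_add, map_add, hx, hy, map_add, map_add]
  | tmul c m =>
    rw [LinearMap.rTensor_tmul, pushEquiv_tmul, pushEquiv_tmul]
    rfl

theorem pushEquiv_baseChange {N' : ModuleCat.{u + 1} A'} (f : M' ⟶ N')
    (y : (B : Type u) ⊗[A] resMod (A := A) M') :
    pushEquiv B N' (((ModuleCat.restrictScalars (algebraMap A A')).map f).hom.baseChange (B : Type u) y) =
      f.hom.baseChange (A' ⊗[A] (B : Type u)) (pushEquiv B M' y) := by
  induction y using TensorProduct.induction_on with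
  | zero => simp
  | add x y hx hy => simp [hx, hy]
  | tmul c m =>
    rw [LinearMap.baseChange_tmul]
    refine (pushEquiv_tmul B N' c (f.hom m)).trans ?_
    exact ((congrArg _ (pushEquiv_tmul B M' c m)).trans (LinearMap.baseChange_tmul ..)).symm

end Push

theorem adequate_push {F' : MVF A'} (hF' : adequate A' F') :
    adequate A ((Adeq.push A A').obj F') := by
  obtain ⟨M', N', f, i, hi⟩ := exists_isKerU hF'
  let j : (Adeq.push A A').obj F' ⟶ uobj (resMod (A := A) M') := mvfHomMk
    (fun B =>
      { toFun := fun x => (pushEquiv B M').symm (i.app (pt ((Alg.baseChange A A').obj B)) x)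
        map_add' := fun x y => by
          exact (congrArg _ (app_add i (B := (Alg.baseChange A A').obj B) x y)).trans (map_add _ _ _)
        map_smul' := fun b x => by
          refine (pushEquiv B M').injective (((pushEquiv B M').apply_symm_apply _).trans ?_)
          refine Eq.trans ?_ (pushEquiv_smul B M' b _).symm
          rw [LinearEquiv.apply_symm_apply]
          exact app_smul i (B := (Alg.baseChange A A').obj B) ((1 : A') ⊗ₜ[A] (b : (B : Type u))) x })
    (fun B C h x => by
      refine (pushEquiv C M').injective ?_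
      refine ((pushEquiv C M').apply_symm_apply _).trans ?_
      refine Eq.trans ?_ (pushEquiv_nat B M' h _).symm
      refine (IsKerU.nat i ((Alg.baseChange A A').map h) x).trans ?_
      exact congrArg _ ((pushEquiv B M').apply_symm_apply _).symm)
  refine adequate_of_isKerU (i := j) (f := (ModuleCat.restrictScalars (algebraMap A A')).map f)
    ⟨fun B x y hxy => hi.inj _ ((pushEquiv B M').symm.injective hxy), fun B y => ?_⟩
  rw [← (pushEquiv B N').map_eq_zero_iff]
  refine (Iff.of_eq (congrArg (· = 0) (pushEquiv_baseChange B M' f y))).trans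
    ((hi.iff ((Alg.baseChange A A').obj B) (pushEquiv B M' y)).trans (exists_congr fun x => ?_))
  exact ⟨fun h => ((congrArg _ h).trans ((pushEquiv B M').symm_apply_apply y)),
    fun h => ((pushEquiv B M').apply_symm_apply _).symm.trans (congrArg _ h)⟩

section Descent

variable (A') in
theorem unit_naturality {B C : Alg A} (h : B ⟶ C) :
    h ≫ Alg.unit A A' C = Alg.unit A A' B ≫ (Alg.restr A A').map ((Alg.baseChange A A').map h) := by
  refine CommAlgCat.hom_ext (DFunLike.ext _ _ fun b => ?_)
  exact (Algebra.TensorProduct.map_tmul (AlgHom.id A' A') h.hom 1 b).symm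

variable (A') in
/-- The unit `F → push (restr F)`. -/
noncomputable def descUnit (F : MVF A) : F ⟶ (Adeq.push A A').obj ((Adeq.restr A A').obj F) :=
  mvfHomMk
    (fun B =>
      { toFun := fun x => F.map (ptHom (Alg.unit A A' B)) x
        map_add' := fun x y => Fmap_add F _ x y
        map_smul' := fun b x => Fmap_smul F (Alg.unit A A' B) b x })
    (fun _ _ h x => Fmap_map_of_eq F (unit_naturality A' h) x)

theorem adequate_of_descent (F : MVF A) (h₁ : adequate A' ((Adeq.restr A A').obj F))
    (h₂ : ∀ B : Alg A, Function.Injective (F.map (ptHom (Alg.unit A A' B))) ∧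
      ∀ y : F.obj (pt ((Alg.restr A A').obj ((Alg.baseChange A A').obj B))),
        F.map (ptHom (Alg.unit A A' ((Alg.restr A A').obj ((Alg.baseChange A A').obj B)))) y =
          F.map (ptHom ((Alg.restr A A').map ((Alg.baseChange A A').map (Alg.unit A A' B)))) y →
        y ∈ Set.range (F.map (ptHom (Alg.unit A A' B)))) : adequate A F := by
  let G := (Adeq.push A A').obj ((Adeq.restr A A').obj F)
  have hG : adequate A G := adequate_push h₁
  let G₂ := (Adeq.push A A').obj ((Adeq.restr A A').obj G)
  have hG₂ : adequate A G₂ := adequate_push (adequate_restr hG)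
  let δ₁ : G ⟶ G₂ := (Adeq.push A A').map ((Adeq.restr A A').map (descUnit A' F))
  let δ₂ : G ⟶ G₂ := descUnit A' G
  obtain ⟨e⟩ := nonempty_iso_kernel (descUnit A' F) (δ₁ - δ₂) (fun X => (h₂ X.unop.unop).1)
    (fun X y => by
      let B := X.unop.unop
      constructor
      · intro hy
        exact (h₂ B).2 y (sub_eq_zero.1 hy)
      · rintro ⟨x, rfl⟩
        refine sub_eq_zero.2 ?_
        exact Fmap_map_of_eq F (unit_naturality A' (Alg.unit A A' B)) x)
  exact adequate_of_iso e.symm (adequate_kernel hG hG₂ _)

end Descent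

end Groth.Agent.AdeqLib
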