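import Mathlib.Algebra.Category.ModuleCat.Presheaf.Abelian
import Mathlib.Algebra.Category.ModuleCat.Presheaf.EpiMono
import Mathlib.CategoryTheory.Abelian.Exact
import Mathlib.Algebra.Homology.ShortComplex.ModuleCat
import Mathlib.Algebra.Homology.ShortComplex.PreservesHomology
import Mathlib.Algebra.Homology.ShortComplex.ShortExact

/-!
# Presheaves of modules: pointwise criteria
-/

universe w v v₁ u₁ u

open CategoryTheory Limits

namespace Groth.Agent.AdeqLib

variable {C : Type u₁} [Category.{v₁} C] {R : Cᵒᵖ ⥤ RingCat.{u}}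
  {F G H : PresheafOfModules.{v} R}

theorem app_comp_apply (f : F ⟶ G) (g : G ⟶ H) (X : Cᵒᵖ) (x : F.obj X) :
    (f ≫ g).app X x = g.app X (f.app X x) := rfl

theorem app_zero_apply (X : Cᵒᵖ) (x : F.obj X) : (0 : F ⟶ G).app X x = 0 := rfl

theorem app_apply_of_comp_zero {f : F ⟶ G} {g : G ⟶ H} (w : f ≫ g = 0) (X : Cᵒᵖ) (x : F.obj X) :
    g.app X (f.app X x) = 0 := by
  rw [← app_comp_apply, w]; rfl

theorem pw_of_exact {f : F ⟶ G} {g : G ⟶ H} {w : f ≫ g = 0}
    (h : (ShortComplex.mk f g w).Exact) (X : Cᵒᵖ) (y : G.obj X) (hy : g.app X y = 0) :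
    ∃ x, f.app X x = y :=
  (ShortComplex.moduleCat_exact_iff _).1 (h.map (PresheafOfModules.evaluation R X)) y hy

theorem exact_of_pw {f : F ⟶ G} {g : G ⟶ H} (w : f ≫ g = 0)
    (h : ∀ (X : Cᵒᵖ) (y : G.obj X), g.app X y = 0 → ∃ x, f.app X x = y) :
    (ShortComplex.mk f g w).Exact := by
  refine (ShortComplex.exact_iff_epi_kernel_lift _).2 ?_
  refine PresheafOfModules.epi_of_surjective fun X z => ?_
  obtain ⟨x, hx⟩ := h X ((kernel.ι g).app X z) (app_apply_of_comp_zero (kernel.condition g) X z)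
  refine ⟨x, PresheafOfModules.injective_of_mono (kernel.ι g) X ?_⟩
  rw [← hx, ← app_comp_apply, kernel.lift_ι]

theorem kernel_ι_injective (g : G ⟶ H) (X : Cᵒᵖ) : Function.Injective ((kernel.ι g).app X) :=
  PresheafOfModules.injective_of_mono _ X

theorem exists_kernel_ι (g : G ⟶ H) (X : Cᵒᵖ) (y : G.obj X) (hy : g.app X y = 0) :
    ∃ x, (kernel.ι g).app X x = y :=
  pw_of_exact (ShortComplex.exact_of_f_is_kernel
    (ShortComplex.mk (kernel.ι g) g (kernel.condition g)) (kernelIsKernel g)) X y hy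

theorem app_kernel_ι (g : G ⟶ H) (X : Cᵒᵖ) (x : ↑((kernel g).obj X)) :
    g.app X ((kernel.ι g).app X x) = 0 :=
  app_apply_of_comp_zero (kernel.condition g) X x

theorem cokernel_π_surjective (f : F ⟶ G) (X : Cᵒᵖ) : Function.Surjective ((cokernel.π f).app X) :=
  PresheafOfModules.surjective_of_epi _ X

theorem exists_of_cokernel_π_eq_zero (f : F ⟶ G) (X : Cᵒᵖ) (y : G.obj X)
    (hy : (cokernel.π f).app X y = 0) : ∃ x, f.app X x = y :=
  pw_of_exact (ShortComplex.exact_of_g_is_cokernel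
    (ShortComplex.mk f (cokernel.π f) (cokernel.condition f)) (cokernelIsCokernel f)) X y hy

/-- Lifting through an injection onto the kernel. -/
theorem exists_lift {T : PresheafOfModules.{v} R} (i : F ⟶ G) (hi : ∀ X, Function.Injective (i.app X))
    (h : T ⟶ G) (hr : ∀ (X : Cᵒᵖ) (t : T.obj X), ∃ x, i.app X x = h.app X t) :
    ∃ l : T ⟶ F, l ≫ i = h := by
  have : Mono i := PresheafOfModules.mono_of_injective hi
  have hz : h ≫ cokernel.π i = 0 := by
    ext X t
    obtain ⟨x, hx⟩ := hr X t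
    change (cokernel.π i).app X (h.app X t) = 0
    rw [← hx]
    exact app_apply_of_comp_zero (cokernel.condition i) X x
  exact ⟨_, (ShortComplex.exact_of_g_is_cokernel
    (ShortComplex.mk i (cokernel.π i) (cokernel.condition i)) (cokernelIsCokernel i)).lift_f h hz⟩

/-- An injective map onto the pointwise kernel of `g` identifies the source with the kernel. -/
theorem nonempty_iso_kernel (i : F ⟶ G) (g : G ⟶ H) (hi : ∀ X, Function.Injective (i.app X))
    (hg : ∀ (X : Cᵒᵖ) (y : G.obj X), g.app X y = 0 ↔ ∃ x, i.app X x = y) :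
    Nonempty (F ≅ kernel g) := by
  have : Mono i := PresheafOfModules.mono_of_injective hi
  have w : i ≫ g = 0 := by
    ext X x
    exact (hg X _).2 ⟨x, rfl⟩
  exact ⟨(IsLimit.conePointUniqueUpToIso (exact_of_pw w fun X y hy => (hg X y).1 hy).fIsKernel
    (kernelIsKernel g) :)⟩

/-- Descending along a surjection. -/
theorem exists_desc {T : PresheafOfModules.{v} R} (p : G ⟶ H) (hp : ∀ X, Function.Surjective (p.app X))
    (h : G ⟶ T) (hk : ∀ (X : Cᵒᵖ) (y : G.obj X), p.app X y = 0 → h.app X y = 0) :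
    ∃ d : H ⟶ T, p ≫ d = h := by
  have : Epi p := PresheafOfModules.epi_of_surjective hp
  have hz : kernel.ι p ≫ h = 0 := by
    ext X x
    exact hk X _ (app_kernel_ι p X x)
  exact ⟨_, (ShortComplex.exact_of_f_is_kernel
    (ShortComplex.mk (kernel.ι p) p (kernel.condition p)) (kernelIsKernel p)).g_desc h hz⟩

/-- A surjection whose pointwise kernel is the image of `f` identifies the target with the cokernel. -/
theorem nonempty_iso_cokernel (f : F ⟶ G) (p : G ⟶ H) (hp : ∀ X, Function.Surjective (p.app X))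
    (hf : ∀ (X : Cᵒᵖ) (y : G.obj X), p.app X y = 0 ↔ ∃ x, f.app X x = y) :
    Nonempty (H ≅ cokernel f) := by
  have : Epi p := PresheafOfModules.epi_of_surjective hp
  have w : f ≫ p = 0 := by
    ext X x
    exact (hf X _).2 ⟨x, rfl⟩
  exact ⟨(IsColimit.coconePointUniqueUpToIso (exact_of_pw w fun X y hy => (hf X y).1 hy).gIsCokernel
    (cokernelIsCokernel f) :)⟩

section Colimit

variable {J : Type w} [Category.{w} J] {D : J ⥤ PresheafOfModules.{v} R}

/-- The component at `X` of the `j`-th leg of a cocone. -/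
abbrev coleg (c : Cocone D) (j : J) (X : Cᵒᵖ) : (D.obj j).obj X ⟶ c.pt.obj X := (c.ι.app j).app X

theorem iSup_range_eq_top [∀ X : Cᵒᵖ, PreservesColimit D (PresheafOfModules.evaluation R X)]
    {c : Cocone D} (hc : IsColimit c) (X : Cᵒᵖ) :
    (⨆ j, LinearMap.range (coleg c j X).hom) = ⊤ := by
  set S := ⨆ j, LinearMap.range (coleg c j X).hom with hS
  have hm : ModuleCat.ofHom S.mkQ = 0 := by
    refine (isColimitOfPreserves (PresheafOfModules.evaluation R X) hc).hom_ext fun j => ?_
    ext x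
    change S.mkQ (coleg c j X x) = 0
    rw [Submodule.mkQ_apply, Submodule.Quotient.mk_eq_zero]
    exact le_iSup (fun j => LinearMap.range (coleg c j X).hom) j ⟨x, rfl⟩
  refine Submodule.eq_top_iff'.2 fun x => ?_
  have := LinearMap.congr_fun (congrArg ModuleCat.Hom.hom hm) x
  exact (Submodule.Quotient.mk_eq_zero S).1 this

theorem exists_colimit_sum [∀ X : Cᵒᵖ, PreservesColimit D (PresheafOfModules.evaluation R X)]
    {c : Cocone D} (hc : IsColimit c) (X : Cᵒᵖ) (z : c.pt.obj X) :
    ∃ (s : Finset J) (y : ∀ j, (D.obj j).obj X), z = ∑ j ∈ s, coleg c j X (y j) := by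
  have h : z ∈ ⨆ j, LinearMap.range (coleg c j X).hom := by
    rw [iSup_range_eq_top hc X]; trivial
  obtain ⟨f, hf, rfl⟩ := (Submodule.mem_iSup_iff_exists_finsupp _ _).1 h
  choose y hy using hf
  exact ⟨f.support, y, (Finset.sum_congr rfl fun j _ => hy j).symm⟩

end Colimit

end Groth.Agent.AdeqLib
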