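import Groth.Agent.AdeqLib.ChangeRing

/-!
# Descent of adequacy along a finite family of algebras
-/

set_option backward.isDefEq.respectTransparency false

universe u

open CategoryTheory Limits TensorProduct

namespace Groth.Agent.AdeqLib

open Adeq

section Generic

universe v v₁ u₁ u₂

theorem app_sum_apply {C : Type u₁} [Category.{v₁} C] {R : Cᵒᵖ ⥤ RingCat.{u₂}}
    {F G : PresheafOfModules.{v} R} {κ : Type*} (s : Finset κ) (φ : κ → (F ⟶ G)) (X : Cᵒᵖ) (x : F.obj X) :
    (∑ k ∈ s, φ k).app X x = ∑ k ∈ s, (φ k).app X x := by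
  change ((PresheafOfModules.evaluation R X).map (∑ k ∈ s, φ k)).hom x = _
  rw [Functor.map_sum, ModuleCat.hom_sum, LinearMap.sum_apply]
  rfl

end Generic

variable {A : Type u} [CommRing A]

section Abstract

variable {κ κ₂ : Type (u + 1)} [Finite κ] [Finite κ₂] (G : κ → MVF A) (G₂ : κ₂ → MVF A)

open scoped Classical in
/-- The projection from a finite coproduct. -/
noncomputable def sigmaProj (i : κ) : (∐ G) ⟶ G i :=
  Sigma.desc (Function.update (fun _ => 0) i (𝟙 (G i)))

omit [Finite κ] in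
open scoped Classical in
theorem ι_sigmaProj (i k : κ) :
    Sigma.ι G k ≫ sigmaProj G i = Function.update (fun j => (0 : G j ⟶ G i)) i (𝟙 (G i)) k :=
  Sigma.ι_desc _ _

omit [Finite κ] in
theorem sigma_total [Fintype κ] : ∑ i, sigmaProj G i ≫ Sigma.ι G i = 𝟙 (∐ G) := by
  classical
  refine Sigma.hom_ext _ _ fun k => ?_
  rw [Preadditive.comp_sum, Category.comp_id, Finset.sum_eq_single k]
  · rw [← Category.assoc, ι_sigmaProj, Function.update_self, Category.id_comp]
  · intro i _ hi
    rw [← Category.assoc, ι_sigmaProj, Function.update_of_ne hi.symm, zero_comp]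
  · intro h; exact absurd (Finset.mem_univ k) h

theorem sigma_eq_zero (B : Alg A) (z : (∐ G).obj (pt B))
    (h : ∀ i, (sigmaProj G i).app (pt B) z = 0) : z = 0 := by
  have := Fintype.ofFinite κ
  have h0 := congrArg (fun q : (∐ G) ⟶ ∐ G => q.app (pt B) z) (sigma_total G)
  refine h0.symm.trans ?_
  refine (app_sum_apply _ _ _ z).trans ?_
  refine Finset.sum_eq_zero fun i _ => ?_
  change (Sigma.ι G i).app (pt B) ((sigmaProj G i).app (pt B) z) = 0
  rw [h i, map_zero]

/-- An equalizer of two families of maps between finitely many adequate functors is adequate. -/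
theorem adequate_of_equalizer (hG : ∀ i, adequate A (G i)) (hG₂ : ∀ p, adequate A (G₂ p)) {F : MVF A}
    (η : ∀ i, F ⟶ G i) (a b : κ₂ → κ) (u₀ : ∀ p, G (a p) ⟶ G₂ p) (v₀ : ∀ p, G (b p) ⟶ G₂ p)
    (hw : ∀ p, η (a p) ≫ u₀ p = η (b p) ≫ v₀ p)
    (hinj : ∀ (B : Alg A) (x : F.obj (pt B)), (∀ i, (η i).app (pt B) x = 0) → x = 0)
    (hglue : ∀ (B : Alg A) (y : ∀ i, (G i).obj (pt B)),
      (∀ p, (u₀ p).app (pt B) (y (a p)) = (v₀ p).app (pt B) (y (b p))) →
      ∃ x, ∀ i, (η i).app (pt B) x = y i) : adequate A F := by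
  classical
  have := Fintype.ofFinite κ
  have := Fintype.ofFinite κ₂
  let e : F ⟶ ∐ G := ∑ i, η i ≫ Sigma.ι G i
  let δ : (∐ G) ⟶ ∐ G₂ :=
    ∑ p, (sigmaProj G (a p) ≫ u₀ p - sigmaProj G (b p) ≫ v₀ p) ≫ Sigma.ι G₂ p
  have he : ∀ i, e ≫ sigmaProj G i = η i := fun i => by
    simp only [e, Preadditive.sum_comp, Category.assoc, ι_sigmaProj]
    rw [Finset.sum_eq_single i]
    · rw [Function.update_self, Category.comp_id]
    · intro k _ hk; rw [Function.update_of_ne hk, comp_zero]
    · intro h; exact absurd (Finset.mem_univ i) h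
  have hδ : ∀ p, δ ≫ sigmaProj G₂ p = sigmaProj G (a p) ≫ u₀ p - sigmaProj G (b p) ≫ v₀ p := fun p => by
    simp only [δ, Preadditive.sum_comp, Category.assoc, ι_sigmaProj]
    rw [Finset.sum_eq_single p]
    · rw [Function.update_self, Category.comp_id]
    · intro k _ hk; rw [Function.update_of_ne hk, comp_zero]
    · intro h; exact absurd (Finset.mem_univ p) h
  have hδ0 : e ≫ δ = 0 := mvf_ext fun B x => sigma_eq_zero G₂ B _ fun p => by
    rw [← app_comp_apply, Category.assoc, hδ, Preadditive.comp_sub, ← Category.assoc, ← Category.assoc,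
      he, he, hw, sub_self]
    rfl
  obtain ⟨i⟩ := nonempty_iso_kernel e δ
    (fun X => (injective_iff_map_eq_zero (e.app X).hom).2 fun x hx => hinj X.unop.unop x fun i => by
      have h0 := congrArg ((sigmaProj G i).app X) hx
      rw [← app_comp_apply, he, map_zero] at h0
      exact h0)
    (fun X z => by
      constructor
      · intro hz
        obtain ⟨x, hx⟩ := hglue X.unop.unop (fun i => (sigmaProj G i).app X z) (fun p => by
          have h0 := congrArg ((sigmaProj G₂ p).app X) hz
          rw [← app_comp_apply, hδ, map_zero] at h0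
          exact sub_eq_zero.1 h0)
        refine ⟨x, sub_eq_zero.1 (sigma_eq_zero G X.unop.unop _ fun i => ?_)⟩
        refine (map_sub ((sigmaProj G i).app X).hom _ _).trans (sub_eq_zero.2 ?_)
        rw [← app_comp_apply, he]
        exact hx i
      · rintro ⟨x, rfl⟩
        exact app_apply_of_comp_zero hδ0 X x)
  exact adequate_of_iso i.symm (adequate_kernel (adequate_sigma G hG) (adequate_sigma G₂ hG₂) δ)

end Abstract

variable {ι : Type u} [Finite ι] (R' : ι → Type u) [∀ i, CommRing (R' i)]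
  [∀ i, Algebra A (R' i)]

/-- The composite `push ∘ restr`. -/
noncomputable abbrev pr (i : ι) : MVF A ⥤ MVF A := Adeq.restr A (R' i) ⋙ Adeq.push A (R' i)

/-- The ring `R' i ⊗ B` as an algebra over `A`. -/
noncomputable abbrev bcAlg (i : ι) (B : Alg A) : Alg A :=
  (Alg.restr A (R' i)).obj ((Alg.baseChange A (R' i)).obj B)

/-- The base change of a map. -/
noncomputable abbrev bcMap (i : ι) {B C : Alg A} (h : B ⟶ C) : bcAlg R' i B ⟶ bcAlg R' i C :=
  (Alg.restr A (R' i)).map ((Alg.baseChange A (R' i)).map h)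

omit [Finite ι] in
theorem descUnit_comp (i : ι) {F H : MVF A} (φ : F ⟶ H) :
    φ ≫ descUnit (R' i) H = descUnit (R' i) F ≫ (pr R' i).map φ :=
  mvf_ext fun B x => (nat_apply φ (Alg.unit A (R' i) B) x).symm

omit [Finite ι] in
theorem pr_map_descUnit_apply (i j : ι) (F : MVF A) (B : Alg A)
    (y : ((pr R' i).obj F).obj (pt B)) :
    ((pr R' i).map (descUnit (R' j) F)).app (pt B) y =
      F.map (ptHom (Alg.unit A (R' j) (bcAlg R' i B))) y := rfl

omit [Finite ι] in
theorem descUnit_pr_apply (i j : ι) (F : MVF A) (B : Alg A)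
    (y : ((pr R' j).obj F).obj (pt B)) :
    (descUnit (R' i) ((pr R' j).obj F)).app (pt B) y =
      F.map (ptHom (bcMap R' j (Alg.unit A (R' i) B))) y := rfl

omit [Finite ι] in
theorem descUnit_apply' (i : ι) (F : MVF A) (B : Alg A) (x : F.obj (pt B)) :
    (descUnit (R' i) F).app (pt B) x = F.map (ptHom (Alg.unit A (R' i) B)) x := rfl

set_option maxHeartbeats 4000000 in
/-- Adequacy descends along a finite family of algebras `R' i` for which `F` satisfies the sheaf
condition on every algebra. -/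
theorem adequate_of_family (F : MVF A) (h₁ : ∀ i, adequate (R' i) ((Adeq.restr A (R' i)).obj F))
    (hinj : ∀ (B : Alg A) (x : F.obj (pt B)),
      (∀ i, F.map (ptHom (Alg.unit A (R' i) B)) x = 0) → x = 0)
    (hglue : ∀ (B : Alg A) (y : ∀ i, F.obj (pt (bcAlg R' i B))),
      (∀ i j, F.map (ptHom (bcMap R' i (Alg.unit A (R' j) B))) (y i) =
        F.map (ptHom (Alg.unit A (R' i) (bcAlg R' j B))) (y j)) →
      ∃ x, ∀ i, F.map (ptHom (Alg.unit A (R' i) B)) x = y i) : adequate A F :=
  adequate_of_equalizer (fun i : ULift.{u + 1} ι => (pr R' i.down).obj F)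
    (fun p : ULift.{u + 1} ι × ULift.{u + 1} ι => (pr R' p.1.down).obj ((pr R' p.2.down).obj F))
    (fun i => adequate_push (h₁ i.down))
    (fun p => adequate_push (adequate_restr (adequate_push (h₁ p.2.down))))
    (fun i => descUnit (R' i.down) F)
    (fun p => p.1) (fun p => p.2) (fun p => (pr R' p.1.down).map (descUnit (R' p.2.down) F))
    (fun p => descUnit (R' p.1.down) ((pr R' p.2.down).obj F))
    (fun p => (descUnit_comp R' p.1.down (descUnit (R' p.2.down) F)).symm)
    (fun B x hx => hinj B x fun i => (descUnit_apply' R' i F B x).symm.trans (hx ⟨i⟩))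
    (fun B y hy => by
      obtain ⟨x, hx⟩ := hglue B (fun i => y ⟨i⟩) (fun i j => by
        exact ((pr_map_descUnit_apply R' j i F B (y ⟨j⟩)).symm.trans
          ((hy (⟨j⟩, ⟨i⟩)).trans (descUnit_pr_apply R' j i F B (y ⟨i⟩)))).symm)
      exact ⟨x, fun i => (descUnit_apply' R' i.down F B x).trans (hx i.down)⟩)

end Groth.Agent.AdeqLib
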