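import Groth.Agent.AdeqLib.Poly
import Mathlib.CategoryTheory.Limits.Shapes.BinaryProducts
import Mathlib.CategoryTheory.Preadditive.Biproducts
import Mathlib.LinearAlgebra.FreeModule.Finite.Basic
import Mathlib.Algebra.Module.Projective

/-!
# Extensions of adequate functors; projectivity of linearly adequate functors
-/

set_option backward.isDefEq.respectTransparency false

universe u

open CategoryTheory Limits TensorProduct

namespace Groth.Agent.AdeqLib

open Adeq

section Generic

universe v v₁ u₁ u₂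

variable {C : Type u₁} [Category.{v₁} C] {R : Cᵒᵖ ⥤ RingCat.{u₂}}
  {F G H : PresheafOfModules.{v} R}

theorem app_comp_eq_zero (f : F ⟶ G) (g : G ⟶ H) (X : Cᵒᵖ) {x : F.obj X} (h : f.app X x = 0) :
    (f ≫ g).app X x = 0 := by
  rw [app_comp_apply, h, map_zero]

theorem eq_zero_of_app_eq_zero (f : F ⟶ G) (X : Cᵒᵖ) (hf : Function.Injective (f.app X))
    {x : F.obj X} (h : f.app X x = 0) : x = 0 := hf (h.trans (map_zero _).symm)

end Generic

variable {A : Type u} [CommRing A]

/-- The universal element of a linearly adequate functor. -/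
theorem exists_universal (d : LinPres A) :
    ∃ (C : Alg A) (ξ : ↑(d.L.obj (pt C))), ∀ (B : Alg A) (x : d.L.obj (pt B)),
      ∃! h : C ⟶ B, d.L.map (ptHom h) ξ = x := by
  obtain ⟨n, ⟨e⟩⟩ := exists_fin_basis (A := A) d.P
  obtain ⟨m, ⟨f⟩⟩ := exists_fin_basis (A := A) d.P'
  let C : Alg A := algOf A (UnivAlg (coefMat e f d.φ.hom))
  obtain ⟨ξ, hξ⟩ := exists_kernel_ι (umap d.φ) (pt C) (univElt e f d.φ.hom)
    (baseChange_univElt e f d.φ.hom)
  refine ⟨C, ξ, fun B x => ?_⟩
  have key : ∀ h : C ⟶ B, d.L.map (ptHom h) ξ = x ↔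
      h.hom.toLinearMap.rTensor d.P (univElt e f d.φ.hom) =
        (kernel.ι (umap d.φ)).app (pt B) x := by
    intro h
    constructor
    · intro hh
      rw [← hξ, ← hh]
      exact (nat_apply (kernel.ι (umap d.φ)) h ξ).symm
    · intro hh
      refine kernel_ι_injective _ (pt B) ?_
      rw [nat_apply, hξ]
      exact hh
  obtain ⟨h, hh, huniq⟩ := exists_classify e f d.φ.hom _
    (app_kernel_ι (umap d.φ) (pt B) x)
  refine ⟨CommAlgCat.ofHom h, (key _).2 hh, fun h' hh' => ?_⟩
  exact CommAlgCat.hom_ext (huniq h'.hom ((key h').1 hh'))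

/-- A natural family on a linearly adequate functor with a linear part: the linear part is natural,
compatible with scalars and lifts the given morphism. -/
theorem exists_homogeneous_lift {G H : MVF A} (hG : HasPoly G) (hH : HasPoly H) (d : LinPres A)
    (p : G ⟶ H) (hp : ∀ B : Alg A, Function.Surjective (p.app (pt B))) (l : d.L ⟶ H) :
    ∃ ψ : ∀ B : Alg A, d.L.obj (pt B) → G.obj (pt B),
      (∀ B x, p.app (pt B) (ψ B x) = l.app (pt B) x) ∧
      (∀ ⦃B B' : Alg A⦄ (h : B ⟶ B') (x : d.L.obj (pt B)),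
        ψ B' (d.L.map (ptHom h) x) = G.map (ptHom h) (ψ B x)) ∧
      (∀ (B : Alg A) (b : B) (x : d.L.obj (pt B)), ψ B (b • x) = b • ψ B x) := by
  obtain ⟨C, ξ, hξ⟩ := exists_universal d
  choose cl hcl huniq using hξ
  obtain ⟨η, hη⟩ := hp C (l.app (pt C) ξ)
  let s : ∀ B : Alg A, d.L.obj (pt B) → G.obj (pt B) := fun B x => G.map (ptHom (cl B x)) η
  have hs : ∀ B x, p.app (pt B) (s B x) = l.app (pt B) x := fun B x => by
    rw [nat_apply, hη, ← nat_apply]
    exact congrArg _ (hcl B x)
  have hsnat : ∀ ⦃B B' : Alg A⦄ (h : B ⟶ B') (x : d.L.obj (pt B)),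
      s B' (d.L.map (ptHom h) x) = G.map (ptHom h) (s B x) := fun B B' h x => by
    have : cl B x ≫ h = cl B' (d.L.map (ptHom h) x) := huniq _ _ _ (by
      refine (Fmap_comp d.L (cl B x) h ξ).trans ?_
      exact congrArg _ (hcl B x))
    change G.map (ptHom _) η = _
    rw [← this, Fmap_comp]
  let up : ∀ B : Alg A, d.L.obj (pt B) → d.L.obj (pt (polyAlg B)) := fun B x =>
    (Polynomial.X : polyAlg B) • d.L.map (ptHom (polyC B)) x
  refine ⟨fun B x => coefOne hG B (s _ (up B x)), fun B x => ?_, fun B B' h x => ?_, fun B b x => ?_⟩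
  · rw [← coefOne_app hG hH p, hs, app_smul, nat_apply, coefOne_X_smul]
  · have : up B' (d.L.map (ptHom h) x) = d.L.map (ptHom (polyMap h)) (up B x) := by
      simp only [up]
      rw [Fmap_smul, polyMap_X, Fmap_map_of_eq d.L (polyC_polyMap h)]
    change coefOne hG B' (s _ (up B' (d.L.map (ptHom h) x))) = _
    rw [this, hsnat, coefOne_map]
  · have : up B (b • x) = d.L.map (ptHom (polyScale B b)) (up B x) := by
      simp only [up]
      rw [Fmap_smul d.L (polyC B), Fmap_smul d.L (polyScale B b), polyScale_X, ← Fmap_comp,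
        polyC_polyScale, smul_smul, polyC_apply, mul_comm]
    change coefOne hG B (s _ (up B (b • x))) = _
    rw [this, hsnat, coefOne_scale]

/-- Lifting along a surjection with kernel `underline M`. -/
theorem exists_lift_of_uobj {G H : MVF A} (hG : HasPoly G) (hH : HasPoly H) (d : LinPres A)
    (p : G ⟶ H) (hp : ∀ B : Alg A, Function.Surjective (p.app (pt B)))
    {M : ModuleCat.{u + 1} A} (i : uobj M ⟶ G) (hi : ∀ B : Alg A, Function.Injective (i.app (pt B)))
    (hex : ∀ (B : Alg A) (y : G.obj (pt B)), p.app (pt B) y = 0 ↔ ∃ x, i.app (pt B) x = y)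
    (l : d.L ⟶ H) : ∃ σ : d.L ⟶ G, σ ≫ p = l := by
  obtain ⟨ψ, hψp, hψn, hψs⟩ := exists_homogeneous_lift hG hH d p hp l
  have hψ0 : ∀ B : Alg A, ψ B 0 = 0 := fun B => by simpa using hψs B 0 0
  -- the presentation of pairs
  let e : LinPres A :=
    { P := ModuleCat.of A (d.P × d.P)
      P' := ModuleCat.of A (d.P' × d.P')
      finP := inferInstanceAs (Module.Finite A (d.P × d.P))
      freeP := inferInstanceAs (Module.Free A (d.P × d.P))
      finP' := inferInstanceAs (Module.Finite A (d.P' × d.P'))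
      freeP' := inferInstanceAs (Module.Free A (d.P' × d.P'))
      φ := ModuleCat.ofHom (d.φ.hom.prodMap d.φ.hom) }
  have hι : ∀ (g : e.P ⟶ d.P) (g' : e.P' ⟶ d.P'), g ≫ d.φ = e.φ ≫ g' →
      ∃ π : e.L ⟶ d.L, π ≫ kernel.ι (umap d.φ) = kernel.ι (umap e.φ) ≫ umap g := fun g g' hg =>
    exists_lift _ (fun X => kernel_ι_injective _ X) _ fun X t => exists_kernel_ι _ X _ (by
      refine app_apply_of_comp_zero ?_ X t
      rw [Category.assoc, ← Functor.map_comp, hg, Functor.map_comp, kernel.condition_assoc, zero_comp])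
  obtain ⟨π₁, hπ₁⟩ := hι (ModuleCat.ofHom (LinearMap.fst A d.P d.P))
    (ModuleCat.ofHom (LinearMap.fst A d.P' d.P')) (ModuleCat.hom_ext (LinearMap.ext fun z => rfl))
  obtain ⟨π₂, hπ₂⟩ := hι (ModuleCat.ofHom (LinearMap.snd A d.P d.P))
    (ModuleCat.ofHom (LinearMap.snd A d.P' d.P')) (ModuleCat.hom_ext (LinearMap.ext fun z => rfl))
  let dl : ∀ B : Alg A, e.L.obj (pt B) → G.obj (pt B) := fun B z =>
    ψ B (π₁.app (pt B) z + π₂.app (pt B) z) - ψ B (π₁.app (pt B) z) - ψ B (π₂.app (pt B) z)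
  have hdl : ∀ B z, ∃ m, i.app (pt B) m = dl B z := fun B z => (hex B _).1 (by
    simp only [dl, map_sub, hψp, map_add]
    abel)
  choose δ hδ using hdl
  obtain ⟨g, hg⟩ := exists_extend e (isKerU_kernel e.φ) δ
    (fun B B' h z => hi B' (by
      refine (hδ B' _).trans ((?_ : dl B' _ = G.map (ptHom h) (dl B z)).trans ?_)
      · have n1 := nat_apply π₁ h z
        have n2 := nat_apply π₂ h z
        have n3 := (congrArg₂ (fun a b => ψ B' (a + b)) n1 n2).trans
          ((congrArg (ψ B') (Fmap_add d.L h _ _).symm).trans (hψn h _))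
        exact (congrArg₂ (fun a b => a - b) (congrArg₂ (fun a b => a - b) n3
          ((congrArg (ψ B') n1).trans (hψn h _))) ((congrArg (ψ B') n2).trans (hψn h _))).trans
          ((congrArg (fun a => a - _) (map_sub (G.map (ptHom h)).hom _ _).symm).trans
            (map_sub (G.map (ptHom h)).hom _ _).symm)
      · rw [← hδ B z, ← nat_apply]
        rfl))
    (fun B b z => hi B (by
      rw [hδ, app_smul, hδ]
      have n1 := app_smul π₁ b z
      have n2 := app_smul π₂ b z
      have n3 := (congrArg₂ (fun a c => ψ B (a + c)) n1 n2).trans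
        ((congrArg (ψ B) (smul_add b _ _).symm).trans (hψs B b _))
      exact (congrArg₂ (fun a c => a - c) (congrArg₂ (fun a c => a - c) n3
        ((congrArg (ψ B) n1).trans (hψs B b _))) ((congrArg (ψ B) n2).trans (hψs B b _))).trans
        ((congrArg (fun a => a - _) (smul_sub b _ _).symm).trans (smul_sub b _ _).symm)))
  have hadd : ∀ (B : Alg A) (x y : d.L.obj (pt B)), ψ B (x + y) = ψ B x + ψ B y := by
    intro B x y
    have key : ∀ x y : d.L.obj (pt B), ∃ z : e.L.obj (pt B),
        π₁.app (pt B) z = x ∧ π₂.app (pt B) z = y ∧ δ B z =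
          g.hom.baseChange B ((LinearMap.inl A d.P d.P).baseChange B ((kernel.ι (umap d.φ)).app (pt B) x) +
            (LinearMap.inr A d.P d.P).baseChange B ((kernel.ι (umap d.φ)).app (pt B) y)) := by
      intro x y
      let w : B ⊗[A] (d.P × d.P) :=
        (LinearMap.inl A d.P d.P).baseChange B ((kernel.ι (umap d.φ)).app (pt B) x) +
          (LinearMap.inr A d.P d.P).baseChange B ((kernel.ι (umap d.φ)).app (pt B) y)
      have h1 : (LinearMap.fst A d.P d.P).baseChange B w = (kernel.ι (umap d.φ)).app (pt B) x := by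
        simp only [w, map_add, ← baseChange_comp_apply, LinearMap.fst_comp_inl, LinearMap.fst_comp_inr,
          LinearMap.baseChange_id, LinearMap.baseChange_zero, LinearMap.id_apply, LinearMap.zero_apply,
          add_zero]
      have h2 : (LinearMap.snd A d.P d.P).baseChange B w = (kernel.ι (umap d.φ)).app (pt B) y := by
        simp only [w, map_add, ← baseChange_comp_apply, LinearMap.snd_comp_inl, LinearMap.snd_comp_inr,
          LinearMap.baseChange_id, LinearMap.baseChange_zero, LinearMap.id_apply, LinearMap.zero_apply,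
          zero_add]
      have hw : e.φ.hom.baseChange B w = 0 := by
        have a1 : LinearMap.fst A d.P' d.P' ∘ₗ d.φ.hom.prodMap d.φ.hom =
            d.φ.hom ∘ₗ LinearMap.fst A d.P d.P := LinearMap.ext fun q => rfl
        have a2 : LinearMap.snd A d.P' d.P' ∘ₗ d.φ.hom.prodMap d.φ.hom =
            d.φ.hom ∘ₗ LinearMap.snd A d.P d.P := LinearMap.ext fun q => rfl
        refine eq_zero_of_baseChange_fst_snd _ ?_ ?_
        · rw [← baseChange_comp_apply, ModuleCat.hom_ofHom, a1, baseChange_comp_apply, h1]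
          exact app_kernel_ι (umap d.φ) (pt B) x
        · rw [← baseChange_comp_apply, ModuleCat.hom_ofHom, a2, baseChange_comp_apply, h2]
          exact app_kernel_ι (umap d.φ) (pt B) y
      obtain ⟨z, hz⟩ := exists_kernel_ι (umap e.φ) (pt B) w hw
      refine ⟨z, kernel_ι_injective _ (pt B) ?_, kernel_ι_injective _ (pt B) ?_, ?_⟩
      · rw [← app_comp_apply, hπ₁, app_comp_apply, hz]; exact h1
      · rw [← app_comp_apply, hπ₂, app_comp_apply, hz]; exact h2
      · rw [hg B z, hz]
    obtain ⟨z, z1, z2, z3⟩ := key x y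
    obtain ⟨zx, x1, x2, x3⟩ := key x 0
    obtain ⟨zy, y1, y2, y3⟩ := key 0 y
    have hx0 : δ B zx = 0 := hi B (by
      rw [hδ, map_zero]
      simp only [dl, x1, x2, hψ0, add_zero, sub_self])
    have hy0 : δ B zy = 0 := hi B (by
      rw [hδ, map_zero]
      simp only [dl, y1, y2, hψ0, zero_add, sub_self, sub_zero])
    have hz0 : δ B z = 0 := by
      have a1 := x3.symm.trans hx0
      have a2 := y3.symm.trans hy0
      rw [map_zero, map_zero, add_zero] at a1
      rw [map_zero, map_zero, zero_add] at a2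
      rw [z3, map_add, a1, a2, add_zero]
    have := hδ B z
    rw [hz0, map_zero] at this
    simp only [dl, z1, z2] at this
    rw [← sub_eq_zero, ← sub_sub]
    exact this.symm
  refine ⟨mvfHomMk (fun B => { toFun := ψ B, map_add' := hadd B, map_smul' := hψs B }) hψn,
    mvf_ext fun B x => ?_⟩
  exact hψp B x

/-- Lifting a map from a linearly adequate functor to the cokernel of a map into `underline M`. -/
theorem exists_lift_coker_uobj (d : LinPres A) {F : MVF A} (hF : Covered F) {M : ModuleCat.{u + 1} A}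
    (ψ : F ⟶ uobj M) (l : d.L ⟶ cokernel ψ) : ∃ τ : d.L ⟶ uobj M, τ ≫ cokernel.π ψ = l := by
  obtain ⟨Q, C, a, c, hc, h1, h2, -⟩ := exists_coker hF ψ
  have hw : ψ ≫ umap a = 0 := mvf_ext fun B x => (h1 B _).2 ⟨x, rfl⟩
  let j : cokernel ψ ⟶ uobj Q := cokernel.desc ψ (umap a) hw
  have hjπ : cokernel.π ψ ≫ j = umap a := cokernel.π_desc _ _ _
  have hjinj : ∀ B : Alg A, Function.Injective (j.app (pt B)) := fun B => by
    refine (injective_iff_map_eq_zero (j.app (pt B)).hom).2 fun z hz => ?_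
    obtain ⟨y, rfl⟩ := cokernel_π_surjective ψ (pt B) z
    obtain ⟨x, rfl⟩ := (h1 B y).1 (by
      have := hz
      rw [← app_comp_apply, hjπ] at this
      exact this)
    exact app_apply_of_comp_zero (cokernel.condition ψ) (pt B) x
  obtain ⟨g, hg⟩ := exists_extend_hom d (l ≫ j)
  have hgc : kernel.ι (umap d.φ) ≫ umap (g ≫ c) = 0 := mvf_ext fun B x => by
    obtain ⟨y, hy⟩ := cokernel_π_surjective ψ (pt B) (l.app (pt B) x)
    have e : g.hom.baseChange B ((kernel.ι (umap d.φ)).app (pt B) x) = a.hom.baseChange B y := by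
      have := congrArg (fun q : d.L ⟶ uobj Q => q.app (pt B) x) hg
      refine this.trans ?_
      rw [app_comp_apply, ← hy, ← app_comp_apply, hjπ]
      rfl
    change (g ≫ c).hom.baseChange B _ = _
    rw [ModuleCat.hom_comp, baseChange_comp_apply]
    exact (congrArg _ e).trans ((h2 B _).2 ⟨y, rfl⟩)
  obtain ⟨h, hh⟩ := exists_factor_hom d (g ≫ c) hgc
  have : Module.Projective A d.P := Module.Projective.of_free
  have : Module.Projective A d.P' := Module.Projective.of_free
  obtain ⟨h', hh'⟩ := Module.projective_lifting_property c.hom h.hom hc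
  let g₁ : d.P →ₗ[A] Q := g.hom - h' ∘ₗ d.φ.hom
  have hmem : ∀ x, g₁ x ∈ LinearMap.range a.hom := by
    intro x
    have hcx : c.hom (g₁ x) = 0 := by
      simp only [g₁, LinearMap.sub_apply, LinearMap.comp_apply, map_sub, sub_eq_zero]
      exact (LinearMap.congr_fun (congrArg ModuleCat.Hom.hom hh) x).symm.trans
        (LinearMap.congr_fun hh' (d.φ.hom x)).symm
    obtain ⟨y, hy⟩ := (h2 (algOf A A) ((1 : A) ⊗ₜ[A] g₁ x)).1 (by simp [hcx])
    refine ⟨TensorProduct.lid A M y, ?_⟩
    have key : ∀ y : A ⊗[A] M, a.hom (TensorProduct.lid A M y) =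
        TensorProduct.lid A Q (a.hom.baseChange A y) := fun y => by
      induction y using TensorProduct.induction_on with
      | zero => simp
      | tmul r m => simp
      | add p q hp hq => simp [hp, hq]
    rw [key]
    exact (congrArg (TensorProduct.lid A Q) hy).trans (by simp)
  obtain ⟨g₂, hg₂⟩ := Module.projective_lifting_property a.hom.rangeRestrict
    (g₁.codRestrict _ hmem) a.hom.surjective_rangeRestrict
  refine ⟨kernel.ι (umap d.φ) ≫ umap (ModuleCat.ofHom g₂), mvf_ext fun B x => hjinj B ?_⟩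
  rw [← app_comp_apply (_ ≫ cokernel.π ψ) j, Category.assoc, hjπ, ← app_comp_apply l j, ← hg]
  change a.hom.baseChange B (g₂.baseChange B ((kernel.ι (umap d.φ)).app (pt B) x)) =
    g.hom.baseChange B ((kernel.ι (umap d.φ)).app (pt B) x)
  have : a.hom ∘ₗ g₂ = g₁ := LinearMap.ext fun q => congrArg Subtype.val (LinearMap.congr_fun hg₂ q)
  rw [← baseChange_comp_apply, this]
  simp only [g₁, LinearMap.baseChange_sub, LinearMap.sub_apply, baseChange_comp_apply]
  refine sub_eq_self.2 ?_
  exact (congrArg _ (app_kernel_ι (umap d.φ) (pt B) x)).trans (map_zero _)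

/-- Lifting maps from linearly adequate functors along surjections with adequate kernel. -/
theorem exists_lift_lin {F G H : MVF A} (hF : adequate A F) (hH : adequate A H)
    (i : F ⟶ G) (p : G ⟶ H) (hi : ∀ B : Alg A, Function.Injective (i.app (pt B)))
    (hp : ∀ B : Alg A, Function.Surjective (p.app (pt B)))
    (hex : ∀ (B : Alg A) (y : G.obj (pt B)), p.app (pt B) y = 0 ↔ ∃ x, i.app (pt B) x = y)
    (d : LinPres A) (l : d.L ⟶ H) : ∃ σ : d.L ⟶ G, σ ≫ p = l := by
  obtain ⟨M, N, f, k, hk⟩ := exists_isKerU hF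
  have hip : i ≫ p = 0 := mvf_ext fun B x => (hex B _).2 ⟨x, rfl⟩
  let r : F ⟶ G ⊞ uobj M := i ≫ biprod.inl - k ≫ biprod.inr
  let α : G ⟶ cokernel r := biprod.inl ≫ cokernel.π r
  let β : uobj M ⟶ cokernel r := biprod.inr ≫ cokernel.π r
  let q : cokernel r ⟶ H := cokernel.desc r (biprod.desc p 0) (by simp [r, hip])
  let q₂ : cokernel r ⟶ cokernel k := cokernel.desc r (biprod.desc 0 (cokernel.π k)) (by simp [r])
  have hαq : α ≫ q = p := by simp [α, q]
  have hβq : β ≫ q = 0 := by simp [β, q]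
  have hβq₂ : β ≫ q₂ = cokernel.π k := by simp [β, q₂]
  have hαq₂ : α ≫ q₂ = 0 := by simp [α, q₂]
  have hr : i ≫ α = k ≫ β := by
    have := cokernel.condition r
    simp only [r, Preadditive.sub_comp, sub_eq_zero, Category.assoc] at this
    exact this
  have hgen : ∀ (B : Alg A) (z : (cokernel r).obj (pt B)),
      ∃ g m, z = α.app (pt B) g + β.app (pt B) m := by
    intro B z
    obtain ⟨w, rfl⟩ := cokernel_π_surjective r (pt B) z
    refine ⟨(biprod.fst : G ⊞ uobj M ⟶ G).app (pt B) w, (biprod.snd : G ⊞ uobj M ⟶ _).app (pt B) w, ?_⟩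
    rw [← app_comp_apply, ← app_comp_apply, ← LinearMap.add_apply]
    change _ = (biprod.fst ≫ α + biprod.snd ≫ β).app (pt B) w
    simp only [α, β, ← Category.assoc, ← Preadditive.add_comp, biprod.total, Category.id_comp]
  have hαinj : ∀ B : Alg A, Function.Injective (α.app (pt B)) := fun B =>
    (injective_iff_map_eq_zero (α.app (pt B)).hom).2 fun g hg => by
      obtain ⟨x, hx⟩ := exists_of_cokernel_π_eq_zero r (pt B) _ ((app_comp_apply _ _ _ _).symm.trans hg)
      have e1 := congrArg ((biprod.snd : G ⊞ uobj M ⟶ _).app (pt B)) hx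
      rw [← app_comp_apply, ← app_comp_apply,
        show r ≫ (biprod.snd : G ⊞ uobj M ⟶ _) = -k by simp [r], biprod.inl_snd] at e1
      have hx0 : x = 0 := hk.inj B ((neg_eq_zero.1 (e1.trans (app_zero_apply _ _))).trans (map_zero _).symm)
      have e2 := congrArg ((biprod.fst : G ⊞ uobj M ⟶ _).app (pt B)) hx
      rw [hx0, map_zero, map_zero, ← app_comp_apply, biprod.inl_fst] at e2
      exact e2.symm
  have hβinj : ∀ B : Alg A, Function.Injective (β.app (pt B)) := fun B =>
    (injective_iff_map_eq_zero (β.app (pt B)).hom).2 fun m hm => by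
      obtain ⟨x, hx⟩ := exists_of_cokernel_π_eq_zero r (pt B) _ ((app_comp_apply _ _ _ _).symm.trans hm)
      have e1 := congrArg ((biprod.fst : G ⊞ uobj M ⟶ _).app (pt B)) hx
      rw [← app_comp_apply, ← app_comp_apply,
        show r ≫ (biprod.fst : G ⊞ uobj M ⟶ _) = i by simp [r], biprod.inr_fst] at e1
      have hx0 : x = 0 := hi B ((e1.trans (app_zero_apply _ _)).trans (map_zero _).symm)
      have e2 := congrArg ((biprod.snd : G ⊞ uobj M ⟶ _).app (pt B)) hx
      rw [hx0, map_zero, map_zero, ← app_comp_apply, biprod.inr_snd] at e2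
      exact e2.symm
  have hqsurj : ∀ B : Alg A, Function.Surjective (q.app (pt B)) := fun B h => by
    obtain ⟨g, rfl⟩ := hp B h
    exact ⟨α.app (pt B) g, by rw [← app_comp_apply, hαq]⟩
  have hqex : ∀ (B : Alg A) (y : (cokernel r).obj (pt B)),
      q.app (pt B) y = 0 ↔ ∃ x, β.app (pt B) x = y := fun B y => by
    constructor
    · intro hy
      obtain ⟨g, m, rfl⟩ := hgen B y
      rw [map_add, ← app_comp_apply, ← app_comp_apply, hαq, hβq, app_zero_apply, add_zero] at hy
      obtain ⟨x, rfl⟩ := (hex B g).1 hy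
      refine ⟨k.app (pt B) x + m, ?_⟩
      rw [map_add, ← app_comp_apply k, ← app_comp_apply i, hr]
    · rintro ⟨m, rfl⟩
      exact app_apply_of_comp_zero hβq (pt B) m
  obtain ⟨σ₁, hσ₁⟩ := exists_lift_of_uobj
    (hasPoly_of_exact β q hβinj hqsurj hqex (hasPoly_uobj M) (hasPoly_of_adequate hH))
    (hasPoly_of_adequate hH) d q hqsurj β hβinj hqex l
  obtain ⟨τ, hτ⟩ := exists_lift_coker_uobj d (covered_of_adequate hF) k (σ₁ ≫ q₂)
  obtain ⟨σ, hσ⟩ := exists_lift α (fun X => hαinj X.unop.unop) (σ₁ - τ ≫ β) (fun X t => by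
    have h0 : (σ₁ - τ ≫ β) ≫ q₂ = 0 := by
      rw [Preadditive.sub_comp, Category.assoc, hβq₂, hτ, sub_self]
    obtain ⟨g, m, hy⟩ := hgen X.unop.unop ((σ₁ - τ ≫ β).app X t)
    have h1 : q₂.app X ((σ₁ - τ ≫ β).app X t) = 0 := app_apply_of_comp_zero h0 X t
    rw [hy, map_add, ← app_comp_apply, ← app_comp_apply, hαq₂, hβq₂, app_zero_apply, zero_add] at h1
    obtain ⟨x, rfl⟩ := exists_of_cokernel_π_eq_zero k X m h1
    refine ⟨g + i.app X x, ?_⟩
    rw [hy, map_add, ← app_comp_apply, ← app_comp_apply, hr])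
  refine ⟨σ, ?_⟩
  rw [← hαq, ← Category.assoc, hσ, Preadditive.sub_comp, Category.assoc, hβq, comp_zero, sub_zero, hσ₁]

/-- A quotient of an adequate functor which is an extension of adequate functors is adequate. -/
theorem adequate_of_cover {X₀ F G H : MVF A} (hF : adequate A F) (hH : adequate A H)
    (i : F ⟶ G) (p : G ⟶ H) (hi : ∀ B : Alg A, Function.Injective (i.app (pt B)))
    (hex : ∀ (B : Alg A) (y : G.obj (pt B)), p.app (pt B) y = 0 ↔ ∃ x, i.app (pt B) x = y)
    (hX : adequate A X₀) (ρ : X₀ ⟶ G) (hsurj : ∀ B : Alg A, Function.Surjective (ρ.app (pt B))) :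
    adequate A G := by
  have hY := adequate_kernel hX hH (ρ ≫ p)
  obtain ⟨t, ht⟩ := exists_lift i (fun X => hi X.unop.unop) (kernel.ι (ρ ≫ p) ≫ ρ) (fun X z =>
    (hex X.unop.unop _).1 (by
      exact app_apply_of_comp_zero (g := p) (f := kernel.ι (ρ ≫ p) ≫ ρ)
        (by rw [Category.assoc, kernel.condition]) X z))
  have hK := adequate_kernel hY hF t
  have key : ∀ (X : ((Alg A)ᵒᵖ)ᵒᵖ) (x : ↑(X₀.obj X)), ρ.app X x = 0 →
      ∃ v, (kernel.ι t ≫ kernel.ι (ρ ≫ p)).app X v = x := by
    intro X x hx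
    have h0 : (ρ ≫ p).app X x = 0 := app_comp_eq_zero ρ p X hx
    obtain ⟨w, hw⟩ := exists_kernel_ι (ρ ≫ p) X x h0
    have e1 : (t ≫ i).app X w = (kernel.ι (ρ ≫ p) ≫ ρ).app X w := by rw [ht]
    have e2 : i.app X (t.app X w) = 0 := e1.trans ((congrArg (ρ.app X) hw).trans hx)
    have htw : t.app X w = 0 := eq_zero_of_app_eq_zero i X (hi X.unop.unop) e2
    obtain ⟨v, hv⟩ := exists_kernel_ι t X w htw
    exact ⟨v, (congrArg ((kernel.ι (ρ ≫ p)).app X) hv).trans hw⟩
  have w0 : (kernel.ι t ≫ kernel.ι (ρ ≫ p)) ≫ ρ = 0 := by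
    rw [Category.assoc, ← ht, kernel.condition_assoc, zero_comp]
  have key' : ∀ (X : ((Alg A)ᵒᵖ)ᵒᵖ) (x : ↑(X₀.obj X)),
      ρ.app X x = 0 ↔ ∃ v, (kernel.ι t ≫ kernel.ι (ρ ≫ p)).app X v = x :=
    fun X x => ⟨key X x, fun ⟨v, hv⟩ => hv ▸ app_apply_of_comp_zero w0 X v⟩
  exact adequate_of_iso
    (nonempty_iso_cokernel _ ρ (fun X => hsurj X.unop.unop) key').some.symm
    (adequate_cokernel (covered_of_adequate hK) hX _)


theorem adequate_extension {F G H : MVF A} (hF : adequate A F) (hH : adequate A H)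
    (i : F ⟶ G) (p : G ⟶ H) (hi : ∀ B : Alg A, Function.Injective (i.app (pt B)))
    (hp : ∀ B : Alg A, Function.Surjective (p.app (pt B)))
    (hex : ∀ (B : Alg A) (y : G.obj (pt B)), p.app (pt B) y = 0 ↔ ∃ x, i.app (pt B) x = y) :
    adequate A G := by
  choose d l y hy using fun j : (Σ B : Alg A, H.obj (pt B)) => covered_of_adequate hH j.1 j.2
  choose σ hσ using fun j => exists_lift_lin hF hH i p hi hp hex (d j) (l j)
  let T : Option (Σ B : Alg A, H.obj (pt B)) → MVF A := fun o => o.elim F fun j => (d j).L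
  have hT : ∀ o, adequate A (T o)
    | none => hF
    | some j => ⟨_, _, (d j).φ, ⟨Iso.refl _⟩⟩
  let legs : ∀ o, T o ⟶ G
    | none => i
    | some j => σ j
  let ρ : (∐ T) ⟶ G := Sigma.desc legs
  have hsurj : ∀ B : Alg A, Function.Surjective (ρ.app (pt B)) := by
    intro B g
    let j : Σ B : Alg A, H.obj (pt B) := ⟨B, p.app (pt B) g⟩
    have h0 : p.app (pt B) (g - (σ j).app (pt B) (y j)) = 0 := by
      rw [map_sub, ← app_comp_apply, hσ j, sub_eq_zero]
      exact (hy j).symm
    obtain ⟨x, hx⟩ := (hex B _).1 h0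
    refine ⟨(Sigma.ι T none).app (pt B) x + (Sigma.ι T (some j)).app (pt B) (y j), ?_⟩
    rw [map_add, ← app_comp_apply, ← app_comp_apply, Sigma.ι_desc, Sigma.ι_desc]
    exact eq_sub_iff_add_eq.1 hx
  exact adequate_of_cover hF hH i p hi hex (adequate_sigma T hT) ρ hsurj

end Groth.Agent.AdeqLib
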