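import Groth.Agent.AdeqLib.Cover
import Mathlib.RingTheory.RingHom.Flat
import Mathlib.RingTheory.Flat.Stability
import Mathlib.RingTheory.Flat.Localization
import Mathlib.RingTheory.Localization.Away.Basic
import Mathlib.RingTheory.Localization.Module
import Mathlib.Algebra.Polynomial.Monic

/-!
# Flat base change of adequate functors
-/

set_option backward.isDefEq.respectTransparency false

universe u

open CategoryTheory Limits TensorProduct

namespace Groth.Agent.AdeqLib

open Adeq

variable {A : Type u} [CommRing A]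

open scoped ChangeOfRings in
theorem bc_tmul (F : MVF A) {B B' : Alg A} (f : B ⟶ B') (r : B') (x : F.obj (pt B)) :
    F.bc f (r ⊗ₜ[(B : Type u),f.hom.toRingHom] x) = r • F.map (ptHom f) x := rfl

theorem bijective_bc_uobj (M : ModuleCat.{u + 1} A) {B B' : Alg A} (f : B ⟶ B') :
    Function.Bijective ((uobj M).bc f) := by
  let _ : Algebra (B : Type u) (B' : Type u) := f.hom.toRingHom.toAlgebra
  have : IsScalarTower A (B : Type u) (B' : Type u) :=
    IsScalarTower.of_algebraMap_eq fun a => (f.hom.commutes a).symm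
  let e := AlgebraTensorModule.cancelBaseChange A (B : Type u) (B' : Type u) (B' : Type u) M
  suffices h : ∀ z : (B' : Type u) ⊗[(B : Type u)] ((B : Type u) ⊗[A] M), (uobj M).bc f z = e z by
    have : ⇑((uobj M).bc f) = ⇑e := funext h
    rw [this]
    exact e.bijective
  intro z
  induction z using TensorProduct.induction_on with
  | zero =>
    rw [map_zero]
    exact map_zero ((uobj M).bc f).hom
  | tmul r w =>
    induction w using TensorProduct.induction_on with
    | zero =>
      rw [tmul_zero, map_zero]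
      exact map_zero ((uobj M).bc f).hom
    | tmul b m =>
      refine (bc_tmul (uobj M) f r (b ⊗ₜ[A] m)).trans ?_
      rw [AlgebraTensorModule.cancelBaseChange_tmul]
      change r • (f.hom b ⊗ₜ[A] m) = _
      rw [TensorProduct.smul_tmul', smul_eq_mul, Algebra.smul_def, mul_comm]
      rfl
    | add x y hx hy =>
      rw [tmul_add]
      exact (map_add ((uobj M).bc f).hom _ _).trans
        ((congrArg₂ (· + ·) hx hy).trans (map_add e _ _).symm)
  | add x y hx hy =>
    exact (map_add ((uobj M).bc f).hom x y).trans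
      ((congrArg₂ (· + ·) hx hy).trans (map_add e x y).symm)

theorem bc_naturality {F G : MVF A} (φ : F ⟶ G) {B B' : Alg A} (f : B ⟶ B') :
    (ModuleCat.extendScalars.{u, u, u + 1} f.hom.toRingHom).map (φ.app (pt B)) ≫ G.bc f =
      F.bc f ≫ φ.app (pt B') := by
  refine ModuleCat.ExtendScalars.hom_ext fun x => ?_
  change G.bc f _ = φ.app (pt B') (F.bc f _)
  refine (bc_tmul G f 1 (φ.app (pt B) x)).trans ?_
  refine Eq.trans ?_ (congrArg _ (bc_tmul F f 1 x)).symm
  rw [app_smul, nat_apply]

theorem isIso_bc {F : MVF A} (hF : adequate A F) {B B' : Alg A} (f : B ⟶ B')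
    (hf : f.hom.toRingHom.Flat) : IsIso (F.bc f) := by
  obtain ⟨M, N, g, i, hi⟩ := exists_isKerU hF
  let E := ModuleCat.extendScalars.{u, u, u + 1} f.hom.toRingHom
  let _ : Algebra (B : Type u) (B' : Type u) := f.hom.toRingHom.toAlgebra
  have : Module.Flat (B : Type u) (B' : Type u) := hf
  have hinj : Function.Injective (E.map (i.app (pt B))) :=
    Module.Flat.lTensor_preserves_injective_linearMap (R := (B : Type u)) (M := (B' : Type u))
      (N := F.obj (pt B)) (P := (uobj M).obj (pt B)) (i.app (pt B)).hom (hi.inj B)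
  have hex : Function.Exact (E.map (i.app (pt B))) (E.map ((umap g).app (pt B))) :=
    Module.Flat.lTensor_exact (R := (B : Type u)) (B' : Type u)
      (fun y => hi.iff B y : Function.Exact (i.app (pt B)).hom ((umap g).app (pt B)).hom)
  have n1 : ∀ z, (uobj M).bc f (E.map (i.app (pt B)) z) = i.app (pt B') (F.bc f z) :=
    fun z => ConcreteCategory.congr_hom (bc_naturality i f) z
  have n2 : ∀ z, (uobj N).bc f (E.map ((umap g).app (pt B)) z) =
      (umap g).app (pt B') ((uobj M).bc f z) :=
    fun z => ConcreteCategory.congr_hom (bc_naturality (umap g) f) z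
  refine (ConcreteCategory.isIso_iff_bijective _).2 ⟨fun x y h => hinj ?_, fun y => ?_⟩
  · exact (bijective_bc_uobj M f).1 (by rw [n1, n1, h])
  · obtain ⟨w, hw⟩ := (bijective_bc_uobj M f).2 (i.app (pt B') y)
    have h0 : E.map ((umap g).app (pt B)) w = 0 := (bijective_bc_uobj N f).1 (by
      rw [n2, hw]
      exact (hi.app_eq_zero B' y).trans (map_zero ((uobj N).bc f).hom).symm)
    obtain ⟨v, hv⟩ := (hex w).1 h0
    exact ⟨v, hi.inj B' (by rw [← n1, hv, hw])⟩

/-- In a localization of a polynomial algebra at a monic polynomial, `1 ⊗ x = 0` forces `x = 0`. -/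
theorem eq_zero_of_one_tmul_eq_zero (B : Type u) [CommRing B] (g : Polynomial B) (hg : g.Monic)
    (S : Type u) [CommRing S] [Algebra (Polynomial B) S] [IsLocalization.Away g S] [Algebra B S]
    [IsScalarTower B (Polynomial B) S]
    {N : Type (u + 1)} [AddCommGroup N] [Module B N] (x : N)
    (h : (1 : S) ⊗ₜ[B] x = 0) : x = 0 := by
  let e := AlgebraTensorModule.cancelBaseChange B (Polynomial B) S S N
  have h1 : (1 : S) ⊗ₜ[Polynomial B] ((1 : Polynomial B) ⊗ₜ[B] x) = 0 :=
    e.injective (by rw [AlgebraTensorModule.cancelBaseChange_tmul, one_smul, h, map_zero])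
  obtain ⟨⟨_, k, rfl⟩, hk⟩ := (IsLocalizedModule.eq_zero_iff (Submonoid.powers g)
    (TensorProduct.mk (Polynomial B) S (Polynomial B ⊗[B] N) 1)).1 h1
  have hk' : (g ^ k) • ((1 : Polynomial B) ⊗ₜ[B] x) = 0 := hk
  rw [TensorProduct.smul_tmul', smul_eq_mul, mul_one] at hk'
  have h2 := congrArg ((TensorProduct.lid B N).toLinearMap ∘ₗ
    (Polynomial.lcoeff B (g ^ k).natDegree).rTensor N) hk'
  simpa [(hg.pow k).coeff_natDegree] using h2

theorem linear_of_unit_linear (F G : MVF A)
    (φ : ∀ B : Alg A, F.obj (pt B) → G.obj (pt B))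
    (hnat : ∀ ⦃B B' : Alg A⦄ (f : B ⟶ B') (x : F.obj (pt B)),
      φ B' (F.map (ptHom f) x) = G.map (ptHom f) (φ B x))
    (hadd : ∀ (B : Alg A) (x y : F.obj (pt B)), φ B (x + y) = φ B x + φ B y)
    (hunit : ∀ (B : Alg A) (v : (B : Type u)ˣ) (x : F.obj (pt B)), φ B ((v : B) • x) = (v : B) • φ B x)
    (hG : ∀ ⦃B B' : Alg A⦄ (f : B ⟶ B'), f.hom.toRingHom.Flat → IsIso (G.bc f))
    (B : Alg A) (b : B) (x : F.obj (pt B)) : φ B (b • x) = b • φ B x := by
  let g : Polynomial B := Polynomial.X * (Polynomial.X + Polynomial.C b)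
  have hg : g.Monic := Polynomial.monic_X.mul (Polynomial.monic_X_add_C b)
  let L : Alg A := algOf A (Localization.Away g)
  let ι : B ⟶ L := CommAlgCat.ofHom
    ((Algebra.ofId (B : Type u) (Localization.Away g)).restrictScalars A)
  have : Module.Flat (B : Type u) (Localization.Away g) :=
    Module.Flat.trans (B : Type u) (Polynomial B) (Localization.Away g)
  have hflat : ι.hom.toRingHom.Flat := by
    change (algebraMap (B : Type u) (Localization.Away g)).Flat
    rw [RingHom.flat_algebraMap_iff]
    infer_instance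
  have := hG ι hflat
  let gL := algebraMap (Polynomial B) (Localization.Away g)
  have hu : IsUnit (gL g) := IsLocalization.Away.algebraMap_isUnit g
  have hu' := hu
  simp only [g, map_mul, IsUnit.mul_iff] at hu'
  obtain ⟨⟨v₂, hv₂⟩, ⟨v₁, hv₁⟩⟩ := hu'
  have hb : (ι.hom b : L) = (v₁ : L) - (v₂ : L) := by
    change algebraMap (B : Type u) (Localization.Away g) b = _
    rw [hv₁, hv₂, map_add, add_sub_cancel_left,
      IsScalarTower.algebraMap_apply (B : Type u) (Polynomial B) (Localization.Away g)]
    rfl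
  let φL : F.obj (pt L) →+ G.obj (pt L) := AddMonoidHom.mk' (φ L) (hadd L)
  have key : G.map (ptHom ι) (φ B (b • x)) = G.map (ptHom ι) (b • φ B x) := by
    rw [← hnat, Fmap_smul, Fmap_smul, ← hnat, hb, sub_smul, sub_smul]
    exact (map_sub φL _ _).trans (congrArg₂ (· - ·) (hunit L v₁ _) (hunit L v₂ _))
  rw [← sub_eq_zero]
  set y := φ B (b • x) - b • φ B x with hy
  have hy0 : G.map (ptHom ι) y = 0 := by
    rw [hy]
    exact (map_sub (G.map (ptHom ι)).hom _ _).trans (sub_eq_zero.2 key)
  have hc : ∀ c : B, algebraMap (B : Type u) (Localization.Away g) c = gL (algebraMap (B : Type u) (Polynomial B) c) :=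
    fun c => IsScalarTower.algebraMap_apply (B : Type u) (Polynomial B) (Localization.Away g) c
  let algB : Algebra (B : Type u) (L : Type u) := ι.hom.toRingHom.toAlgebra
  have htow : @IsScalarTower (B : Type u) (Polynomial B) (L : Type u) _ _ algB.toSMul :=
    @IsScalarTower.of_algebraMap_eq (B : Type u) (Polynomial B) (L : Type u) _ _ _ _ _ algB fun c => hc c
  refine @eq_zero_of_one_tmul_eq_zero (B : Type u) _ g hg (L : Type u) _ _ _ algB htow
    (G.obj (pt B)) _ _ y ?_
  exact ((ConcreteCategory.isIso_iff_bijective (G.bc ι)).1 inferInstance).1 (by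
    refine (bc_tmul G ι 1 y).trans ?_
    rw [hy0, smul_zero]
    exact (map_zero (G.bc ι).hom).symm)

end Groth.Agent.AdeqLib
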