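import Groth.Prelude.Def_Adeq
import Groth.Agent.AdeqLib.Pw
import Mathlib.RingTheory.TensorProduct.Finite
import Mathlib.LinearAlgebra.TensorProduct.RightExactness
import Mathlib.LinearAlgebra.DirectSum.TensorProduct

/-!
# Module-valued functors: element formulas
-/

universe u

open CategoryTheory Limits TensorProduct

namespace Groth.Agent.AdeqLib

open Adeq

variable {A : Type u} [CommRing A]

theorem evalPreservesColimit {J : Type (u + 1)} [SmallCategory J] (D : J ⥤ MVF A)
    (X : ((Alg A)ᵒᵖ)ᵒᵖ) : PreservesColimit D (PresheafOfModules.evaluation.{u + 1} (ringOf A) X) :=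
  have h : PreservesColimitsOfShape J (PresheafOfModules.evaluation.{u + 1} (ringOf A) X) :=
    PresheafOfModules.evaluation_preservesColimitsOfShape.{u + 1, u, u + 1, u + 1, u + 1, u} (ringOf A) J X
  h.preservesColimit

section Transition

variable (F : MVF A) {B B' B'' : Alg A}

theorem Fmap_id (x : F.obj (pt B)) : F.map (ptHom (𝟙 B)) x = x := by
  change F.map (𝟙 (pt B)) x = x
  rw [F.map_id]; rfl

theorem Fmap_comp (h : B ⟶ B') (h' : B' ⟶ B'') (x : F.obj (pt B)) :
    F.map (ptHom (h ≫ h')) x = F.map (ptHom h') (F.map (ptHom h) x) :=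
  F.map_comp_apply (ptHom h) (ptHom h') x

theorem Fmap_map_of_eq {B₂ : Alg A} {h : B ⟶ B'} {h' : B' ⟶ B''} {g : B ⟶ B₂} {g' : B₂ ⟶ B''}
    (e : h ≫ h' = g ≫ g') (x : F.obj (pt B)) :
    F.map (ptHom h') (F.map (ptHom h) x) = F.map (ptHom g') (F.map (ptHom g) x) := by
  rw [← Fmap_comp, ← Fmap_comp, e]

theorem Fmap_smul (h : B ⟶ B') (b : B) (x : F.obj (pt B)) :
    F.map (ptHom h) (b • x) = h.hom b • F.map (ptHom h) x :=
  F.map_smul (ptHom h) b x

theorem Fmap_add (h : B ⟶ B') (x y : F.obj (pt B)) :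
    F.map (ptHom h) (x + y) = F.map (ptHom h) x + F.map (ptHom h) y :=
  map_add (F.map (ptHom h)).hom x y

theorem Fmap_zero (h : B ⟶ B') : F.map (ptHom h) (0 : F.obj (pt B)) = 0 :=
  map_zero (F.map (ptHom h)).hom

variable {F} {G : MVF A} (φ : F ⟶ G)

theorem nat_apply (h : B ⟶ B') (x : F.obj (pt B)) :
    φ.app (pt B') (F.map (ptHom h) x) = G.map (ptHom h) (φ.app (pt B) x) :=
  PresheafOfModules.naturality_apply φ (ptHom h) x

theorem app_smul (b : B) (x : F.obj (pt B)) : φ.app (pt B) (b • x) = b • φ.app (pt B) x :=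
  map_smul (φ.app (pt B)).hom b x

theorem app_add (x y : F.obj (pt B)) :
    φ.app (pt B) (x + y) = φ.app (pt B) x + φ.app (pt B) y :=
  map_add (φ.app (pt B)).hom x y

end Transition

/-- Two morphisms of module-valued functors agreeing on all elements are equal. -/
theorem mvf_ext {F G : MVF A} {φ ψ : F ⟶ G}
    (h : ∀ (B : Alg A) (x : F.obj (pt B)), φ.app (pt B) x = ψ.app (pt B) x) : φ = ψ := by
  ext X x
  exact h X.unop.unop x

/-- `B ↦ B ⊗[A] M`. -/
noncomputable abbrev uobj (M : ModuleCat.{u + 1} A) : MVF A := (underline A).obj M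

/-- The map of `B ↦ B ⊗[A] M` induced by a linear map. -/
noncomputable abbrev umap {M N : ModuleCat.{u + 1} A} (g : M ⟶ N) : uobj M ⟶ uobj N :=
  (underline A).map g

theorem umap_apply {M N : ModuleCat.{u + 1} A} (g : M ⟶ N) (B : Alg A) (x : B ⊗[A] M) :
    (umap g).app (pt B) x = g.hom.baseChange B x := rfl

theorem uobj_map_apply (M : ModuleCat.{u + 1} A) {B B' : Alg A} (f : B ⟶ B') (x : B ⊗[A] M) :
    (uobj M).map (ptHom f) x = f.hom.toLinearMap.rTensor M x := rfl

theorem uobj_smul (M : ModuleCat.{u + 1} A) (B : Alg A) (b : B) (x : B ⊗[A] M) :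
    (b • x : B ⊗[A] M) = (b • (x : (uobj M).obj (pt B)) : (uobj M).obj (pt B)) := rfl

theorem exact_baseChange {M N P : Type (u + 1)} [AddCommGroup M] [AddCommGroup N] [AddCommGroup P]
    [Module A M] [Module A N] [Module A P] {f : M →ₗ[A] N} {g : N →ₗ[A] P}
    (hfg : Function.Exact f g) (hg : Function.Surjective g) (B : Type u) [CommRing B] [Algebra A B] :
    Function.Exact (f.baseChange B) (g.baseChange B) := by
  simp only [LinearMap.baseChange_eq_ltensor]
  exact lTensor_exact B hfg hg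

theorem surjective_baseChange {M N : Type (u + 1)} [AddCommGroup M] [AddCommGroup N]
    [Module A M] [Module A N] {g : M →ₗ[A] N} (hg : Function.Surjective g)
    (B : Type u) [CommRing B] [Algebra A B] : Function.Surjective (g.baseChange B) := by
  simp only [LinearMap.baseChange_eq_ltensor]
  exact LinearMap.lTensor_surjective B hg

theorem baseChange_rTensor {M N : Type (u + 1)} [AddCommGroup M] [AddCommGroup N]
    [Module A M] [Module A N] (g : M →ₗ[A] N) {B B' : Type u} [CommRing B] [Algebra A B]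
    [CommRing B'] [Algebra A B'] (f : B →ₗ[A] B') (x : B ⊗[A] M) :
    g.baseChange B' (f.rTensor M x) = f.rTensor N (g.baseChange B x) := by
  induction x using TensorProduct.induction_on with
  | zero => simp
  | tmul b m => simp
  | add x y hx hy => simp [hx, hy]

theorem baseChange_comp_apply {M N P : Type (u + 1)} [AddCommGroup M] [AddCommGroup N] [AddCommGroup P]
    [Module A M] [Module A N] [Module A P] (f : M →ₗ[A] N) (g : N →ₗ[A] P)
    {B : Type u} [CommRing B] [Algebra A B] (x : B ⊗[A] M) :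
    (g ∘ₗ f).baseChange B x = g.baseChange B (f.baseChange B x) := by
  rw [LinearMap.baseChange_comp, LinearMap.comp_apply]

/-- `baseChange` pairs are jointly injective on a product. -/
theorem eq_zero_of_baseChange_fst_snd {M N : Type (u + 1)} [AddCommGroup M] [AddCommGroup N]
    [Module A M] [Module A N] {B : Type u} [CommRing B] [Algebra A B] (x : B ⊗[A] (M × N))
    (h₁ : (LinearMap.fst A M N).baseChange B x = 0) (h₂ : (LinearMap.snd A M N).baseChange B x = 0) :
    x = 0 := by
  have key : x = (LinearMap.inl A M N).baseChange B ((LinearMap.fst A M N).baseChange B x) +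
      (LinearMap.inr A M N).baseChange B ((LinearMap.snd A M N).baseChange B x) := by
    rw [← baseChange_comp_apply, ← baseChange_comp_apply, ← LinearMap.add_apply,
      ← LinearMap.baseChange_add]
    rw [show LinearMap.inl A M N ∘ₗ LinearMap.fst A M N + LinearMap.inr A M N ∘ₗ LinearMap.snd A M N
      = LinearMap.id from LinearMap.ext fun p => by simp]
    rw [LinearMap.baseChange_id, LinearMap.id_apply]
  rw [key, h₁, h₂, map_zero, map_zero, add_zero]

/-- The natural transformation between two functors given by additive natural linear families. -/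
noncomputable def mvfHomMk {F G : MVF A} (φ : ∀ B : Alg A, F.obj (pt B) →ₗ[(B : Type u)] G.obj (pt B))
    (hnat : ∀ ⦃B B' : Alg A⦄ (f : B ⟶ B') (x : F.obj (pt B)),
      φ B' (F.map (ptHom f) x) = G.map (ptHom f) (φ B x)) : F ⟶ G where
  app X := ModuleCat.ofHom (φ X.unop.unop)
  naturality {X Y} f := by
    ext x
    exact hnat f.unop.unop x

theorem mvfHomMk_apply {F G : MVF A} (φ : ∀ B : Alg A, F.obj (pt B) →ₗ[(B : Type u)] G.obj (pt B))
    (hnat : ∀ ⦃B B' : Alg A⦄ (f : B ⟶ B') (x : F.obj (pt B)),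
      φ B' (F.map (ptHom f) x) = G.map (ptHom f) (φ B x)) (B : Alg A) (x : F.obj (pt B)) :
    (mvfHomMk φ hnat).app (pt B) x = φ B x := rfl

/-- `F` is the kernel of `umap f`, via `i`. -/
structure IsKerU {F : MVF A} {M N : ModuleCat.{u + 1} A} (i : F ⟶ uobj M) (f : M ⟶ N) : Prop where
  inj : ∀ B : Alg A, Function.Injective (i.app (pt B))
  iff : ∀ (B : Alg A) (y : B ⊗[A] M), f.hom.baseChange B y = 0 ↔ ∃ x, i.app (pt B) x = y

theorem adequate_of_isKerU {F : MVF A} {M N : ModuleCat.{u + 1} A} {i : F ⟶ uobj M} {f : M ⟶ N}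
    (h : IsKerU i f) : adequate A F :=
  ⟨M, N, f, nonempty_iso_kernel i (umap f) (fun X => h.inj X.unop.unop)
    (fun X y => h.iff X.unop.unop y)⟩

theorem exists_isKerU {F : MVF A} (hF : adequate A F) :
    ∃ (M N : ModuleCat.{u + 1} A) (f : M ⟶ N) (i : F ⟶ uobj M), IsKerU i f := by
  obtain ⟨M, N, f, ⟨e⟩⟩ := hF
  refine ⟨M, N, f, e.hom ≫ kernel.ι (umap f),
    ⟨fun B => PresheafOfModules.injective_of_mono (e.hom ≫ kernel.ι (umap f)) (pt B),
      fun B y => ⟨fun hy => ?_, ?_⟩⟩⟩
  · obtain ⟨x, hx⟩ := exists_kernel_ι (umap f) (pt B) y hy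
    refine ⟨e.inv.app (pt B) x, ?_⟩
    rw [← hx, ← app_comp_apply, e.inv_hom_id_assoc]
  · rintro ⟨x, rfl⟩
    exact app_kernel_ι (umap f) (pt B) (e.hom.app (pt B) x)

theorem adequate_uobj (M : ModuleCat.{u + 1} A) : adequate A (uobj M) :=
  adequate_of_isKerU (i := 𝟙 _) (f := (0 : M ⟶ M))
    ⟨fun _ _ _ h => h, fun _ y => ⟨fun _ => ⟨y, rfl⟩, fun _ => by simp⟩⟩

theorem adequate_of_iso {F G : MVF A} (e : F ≅ G) (hF : adequate A F) : adequate A G :=
  (adequate A).prop_of_iso e hF

end Groth.Agent.AdeqLib
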