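import Groth.Agent.AdeqLib.Cover
import Mathlib.CategoryTheory.Limits.Shapes.Products

/-!
# Kernels, cokernels, sums and colimits of adequate functors
-/

set_option backward.isDefEq.respectTransparency false

universe u

open CategoryTheory Limits TensorProduct DirectSum

namespace Groth.Agent.AdeqLib

open Adeq

variable {A : Type u} [CommRing A]

theorem adequate_cokernel {F G : MVF A} (hF : Covered F) (hG : adequate A G) (φ : F ⟶ G) :
    adequate A (cokernel φ) := by
  obtain ⟨M, N, f, i, hi⟩ := exists_isKerU hG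
  obtain ⟨Q, C, a, c, -, h1, h2, h3⟩ := exists_coker hF (φ ≫ i)
  have hw : (φ ≫ i) ≫ umap f = 0 := mvf_ext fun B x => hi.app_eq_zero B (φ.app (pt B) x)
  obtain ⟨h, hh⟩ := h3 N f hw
  have hz : φ ≫ i ≫ umap a = 0 := mvf_ext fun B x => (h1 B _).2 ⟨x, rfl⟩
  let j : cokernel φ ⟶ uobj Q := cokernel.desc φ (i ≫ umap a) hz
  have hj : ∀ (B : Alg A) (g : G.obj (pt B)),
      j.app (pt B) ((cokernel.π φ).app (pt B) g) = a.hom.baseChange B (i.app (pt B) g) := fun B g => by
    rw [← app_comp_apply, cokernel.π_desc]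
    rfl
  have hha : ∀ (B : Alg A) (y : B ⊗[A] M),
      h.hom.baseChange B (a.hom.baseChange B y) = f.hom.baseChange B y := fun B y => by
    rw [← baseChange_comp_apply, ← ModuleCat.hom_comp, hh]
  refine adequate_of_isKerU (i := j) (f := ModuleCat.ofHom (c.hom.prod h.hom)) ⟨fun B => ?_, fun B z => ⟨fun hz' => ?_, ?_⟩⟩
  · refine (injective_iff_map_eq_zero (j.app (pt B)).hom).2 fun z hz' => ?_
    obtain ⟨g, rfl⟩ := cokernel_π_surjective φ (pt B) z
    obtain ⟨x, hx⟩ := (h1 B _).1 ((hj B g).symm.trans hz')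
    have : g = φ.app (pt B) x := hi.inj B hx.symm
    rw [this]
    exact app_apply_of_comp_zero (cokernel.condition φ) (pt B) x
  · have hc : c.hom.baseChange B z = 0 := by
      rw [← LinearMap.fst_prod c.hom h.hom, baseChange_comp_apply]
      exact (congrArg _ hz').trans (map_zero _)
    have hh' : h.hom.baseChange B z = 0 := by
      rw [← LinearMap.snd_prod c.hom h.hom, baseChange_comp_apply]
      exact (congrArg _ hz').trans (map_zero _)
    obtain ⟨y, rfl⟩ := (h2 B z).1 hc
    obtain ⟨g, hg⟩ := (hi.iff B y).1 ((hha B y).symm.trans hh')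
    exact ⟨(cokernel.π φ).app (pt B) g, (hj B g).trans (congrArg _ hg)⟩
  · rintro ⟨q, rfl⟩
    obtain ⟨g, rfl⟩ := cokernel_π_surjective φ (pt B) q
    refine eq_zero_of_baseChange_fst_snd _ ?_ ?_
    · rw [← baseChange_comp_apply, ModuleCat.hom_ofHom, LinearMap.fst_prod]
      exact (congrArg _ (hj B g)).trans ((h2 B _).2 ⟨_, rfl⟩)
    · rw [← baseChange_comp_apply, ModuleCat.hom_ofHom, LinearMap.snd_prod]
      exact ((congrArg _ (hj B g)).trans (hha B _)).trans (hi.app_eq_zero B g)

theorem adequate_kernel {F G : MVF A} (hF : adequate A F) (hG : adequate A G) (φ : F ⟶ G) :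
    adequate A (kernel φ) := by
  obtain ⟨M, N, f, i, hi⟩ := exists_isKerU hF
  obtain ⟨K, N', f', k, hk⟩ := exists_isKerU hG
  let MK : ModuleCat.{u + 1} A := ModuleCat.of A (M × K)
  let inl : M ⟶ MK := ModuleCat.ofHom (LinearMap.inl A M K)
  let inr : K ⟶ MK := ModuleCat.ofHom (LinearMap.inr A M K)
  obtain ⟨Q, C, a, -, -, h1, -, -⟩ := exists_coker (covered_of_adequate hF)
    (i ≫ umap inl + φ ≫ k ≫ umap inr)
  have hfst : ∀ (B : Alg A) (p : B ⊗[A] M) (q : B ⊗[A] K), (LinearMap.fst A M K).baseChange B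
      (inl.hom.baseChange B p + inr.hom.baseChange B q) = p := fun B p q => by
    rw [map_add, ← baseChange_comp_apply, ← baseChange_comp_apply, ModuleCat.hom_ofHom,
      ModuleCat.hom_ofHom, LinearMap.fst_comp_inl, LinearMap.fst_comp_inr]
    simp
  have hsnd : ∀ (B : Alg A) (p : B ⊗[A] M) (q : B ⊗[A] K), (LinearMap.snd A M K).baseChange B
      (inl.hom.baseChange B p + inr.hom.baseChange B q) = q := fun B p q => by
    rw [map_add, ← baseChange_comp_apply, ← baseChange_comp_apply, ModuleCat.hom_ofHom,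
      ModuleCat.hom_ofHom, LinearMap.snd_comp_inl, LinearMap.snd_comp_inr]
    simp
  refine adequate_of_isKerU (i := kernel.ι φ ≫ i) (f := inl ≫ a) ⟨fun B => ?_, fun B y => ⟨fun hy => ?_, ?_⟩⟩
  · exact (hi.inj B).comp (kernel_ι_injective φ (pt B))
  · rw [ModuleCat.hom_comp, baseChange_comp_apply] at hy
    obtain ⟨x, hx⟩ := (h1 B _).1 hy
    have hx' : inl.hom.baseChange B (i.app (pt B) x) +
        inr.hom.baseChange B (k.app (pt B) (φ.app (pt B) x)) = inl.hom.baseChange B y := hx
    have e1 := congrArg ((LinearMap.fst A M K).baseChange B) hx'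
    have e2 := congrArg ((LinearMap.snd A M K).baseChange B) hx'
    erw [hfst] at e1
    erw [hsnd] at e2
    have e1' := hfst B y 0
    have e2' := hsnd B y 0
    simp only [map_zero, add_zero] at e1' e2'
    rw [e1'] at e1
    rw [e2'] at e2
    have hφ : φ.app (pt B) x = 0 := hk.inj B (e2.trans (map_zero _).symm)
    obtain ⟨z, hz⟩ := exists_kernel_ι φ (pt B) x hφ
    exact ⟨z, (congrArg (i.app (pt B)) hz).trans e1⟩
  · rintro ⟨z, rfl⟩
    rw [ModuleCat.hom_comp, baseChange_comp_apply]
    refine (h1 B _).2 ⟨(kernel.ι φ).app (pt B) z, ?_⟩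
    change inl.hom.baseChange B (i.app (pt B) ((kernel.ι φ).app (pt B) z)) +
      inr.hom.baseChange B (k.app (pt B) (φ.app (pt B) ((kernel.ι φ).app (pt B) z))) = _
    refine (congrArg (_ + ·) ((congrArg (fun w => inr.hom.baseChange B (k.app (pt B) w))
      (app_kernel_ι φ (pt B) z)).trans ?_)).trans (add_zero _)
    exact (congrArg _ (map_zero _)).trans (map_zero _)

theorem sigma_exists_sum {ι : Type (u + 1)} (F : ι → MVF A) (B : Alg A) (z : (∐ F).obj (pt B)) :
    ∃ (s : Finset ι) (y : ∀ j, (F j).obj (pt B)), z = ∑ j ∈ s, (Sigma.ι F j).app (pt B) (y j) := by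
  classical
  have := fun X => evalPreservesColimit (Discrete.functor F) X
  obtain ⟨s, y, hz⟩ := exists_colimit_sum (colimit.isColimit (Discrete.functor F)) (pt B) z
  refine ⟨s.map ⟨fun j => j.as, fun a b h => Discrete.ext h⟩, fun j => y ⟨j⟩, ?_⟩
  rw [Finset.sum_map]
  exact hz

theorem adequate_sigma {ι : Type (u + 1)} (F : ι → MVF A) (hF : ∀ j, adequate A (F j)) :
    adequate A (∐ F) := by
  classical
  choose M N f i hi using fun j => exists_isKerU (hF j)
  let MS : ModuleCat.{u + 1} A := ModuleCat.of A (⨁ j, M j)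
  let NS : ModuleCat.{u + 1} A := ModuleCat.of A (⨁ j, N j)
  let φ : MS ⟶ NS := ModuleCat.ofHom
    (DirectSum.toModule A ι NS fun j => DirectSum.lof A ι (fun j => N j) j ∘ₗ (f j).hom)
  let T : (∐ F) ⟶ uobj MS := Sigma.desc fun j =>
    i j ≫ umap (ModuleCat.ofHom (DirectSum.lof A ι (fun j => M j) j) : M j ⟶ MS)
  have hT : ∀ (B : Alg A) (j : ι) (x : (F j).obj (pt B)), T.app (pt B) ((Sigma.ι F j).app (pt B) x) =
      (DirectSum.lof A ι (fun j => M j) j).baseChange B ((i j).app (pt B) x) := fun B j x => by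
    rw [← app_comp_apply, Sigma.ι_desc]
    rfl
  have hcomp : ∀ (B : Alg A) (j k : ι) (p : B ⊗[A] M j),
      (DirectSum.component A ι (fun j => M j) k).baseChange B
        ((DirectSum.lof A ι (fun j => M j) j).baseChange B p) =
      if h : j = k then h ▸ p else 0 := by
    intro B j k p
    rw [← baseChange_comp_apply]
    split_ifs with h
    · subst h
      rw [show DirectSum.component A ι (fun j => M j) j ∘ₗ DirectSum.lof A ι (fun j => M j) j =
        LinearMap.id from LinearMap.ext fun q => DirectSum.component.lof_self A (M := fun j => ↥(M j)) j q]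
      simp
    · rw [show DirectSum.component A ι (fun j => M j) k ∘ₗ DirectSum.lof A ι (fun j => M j) j = 0
        from LinearMap.ext fun q => (DirectSum.component.of A (M := fun j => ↥(M j)) k j q).trans (dif_neg h)]
      simp
  have hφ : ∀ j, φ.hom ∘ₗ DirectSum.lof A ι (fun j => M j) j =
      DirectSum.lof A ι (fun j => N j) j ∘ₗ (f j).hom := fun j => LinearMap.ext fun p =>
    DirectSum.toModule_lof A (φ := fun j => DirectSum.lof A ι (fun j => N j) j ∘ₗ (f j).hom) j p
  refine adequate_of_isKerU (i := T) (f := φ) ⟨fun B => ?_, fun B w => ⟨fun hw => ?_, ?_⟩⟩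
  · refine (injective_iff_map_eq_zero (T.app (pt B)).hom).2 fun z hz => ?_
    obtain ⟨s, y, rfl⟩ := sigma_exists_sum F B z
    refine Finset.sum_eq_zero fun k hk => ?_
    have h0 : (DirectSum.component A ι (fun j => M j) k).baseChange B
        (∑ j ∈ s, (DirectSum.lof A ι (fun j => M j) j).baseChange B ((i j).app (pt B) (y j))) = 0 := by
      have e : T.app (pt B) (∑ j ∈ s, (Sigma.ι F j).app (pt B) (y j)) = (0 : B ⊗[A] MS) := hz
      rw [map_sum] at e
      simp only [hT] at e
      exact (congrArg _ e).trans (map_zero _)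
    rw [map_sum] at h0
    simp only [hcomp] at h0
    rw [Finset.sum_dite_eq'] at h0
    rw [if_pos hk] at h0
    have : y k = 0 := (hi k).inj B (h0.trans (map_zero _).symm)
    rw [this]
    exact map_zero _
  · obtain ⟨s, hs⟩ := exists_finset_sum_lof w
    have h0 : ∀ j, (f j).hom.baseChange B
        ((DirectSum.component A ι (fun j => M j) j).baseChange B w) = 0 := fun j => by
      rw [← baseChange_comp_apply,
        show (f j).hom ∘ₗ DirectSum.component A ι (fun j => M j) j =
          DirectSum.component A ι (fun j => N j) j ∘ₗ φ.hom from ?_, baseChange_comp_apply, hw, map_zero]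
      refine DirectSum.linearMap_ext A fun k => LinearMap.ext fun p => ?_
      simp only [LinearMap.comp_apply]
      rw [← LinearMap.comp_apply φ.hom, hφ k, LinearMap.comp_apply]
      erw [DirectSum.component.of, DirectSum.component.of]
      split_ifs with h
      · subst h; rfl
      · simp
    choose x hx using fun j => ((hi j).iff B _).1 (h0 j)
    refine ⟨∑ j ∈ s, (Sigma.ι F j).app (pt B) (x j), ?_⟩
    rw [map_sum]
    refine (Finset.sum_congr rfl fun j _ => ?_).trans (hs s subset_rfl).symm
    exact (hT B j (x j)).trans (congrArg _ (hx j))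
  · rintro ⟨z, rfl⟩
    obtain ⟨s, y, rfl⟩ := sigma_exists_sum F B z
    erw [map_sum, map_sum]
    refine Finset.sum_eq_zero fun j _ => ?_
    refine (congrArg _ (hT B j (y j))).trans ?_
    rw [← baseChange_comp_apply, hφ j, baseChange_comp_apply]
    exact (congrArg _ ((hi j).app_eq_zero B (y j))).trans (map_zero _)

theorem adequate_colimit {J : Type (u + 1)} [SmallCategory J] (D : J ⥤ MVF A)
    (hD : ∀ j, adequate A (D.obj j)) : adequate A (colimit D) := by
  let src : (Σ i j : J, i ⟶ j) → MVF A := fun e => D.obj e.1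
  let r : (∐ src) ⟶ ∐ D.obj :=
    Sigma.desc fun e => D.map e.2.2 ≫ Sigma.ι D.obj e.2.1 - Sigma.ι D.obj e.1
  let cc : Cocone D :=
    { pt := cokernel r
      ι :=
        { app := fun j => Sigma.ι D.obj j ≫ cokernel.π r
          naturality := fun i j φ => by
            have h : Sigma.ι src ⟨i, j, φ⟩ ≫ r ≫ cokernel.π r = 0 := by
              rw [cokernel.condition, comp_zero]
            simp only [r, Sigma.ι_desc_assoc, Preadditive.sub_comp, sub_eq_zero, Category.assoc] at h
            simpa using h } }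
  let back : cokernel r ⟶ colimit D := cokernel.desc r (Sigma.desc (colimit.ι D))
    (Sigma.hom_ext _ _ fun e => by simp [r, src, Preadditive.sub_comp])
  refine adequate_of_iso (F := cokernel r) ⟨back, colimit.desc D cc, ?_, ?_⟩
    (adequate_cokernel (covered_of_adequate (adequate_sigma src fun e => hD e.1))
      (adequate_sigma D.obj hD) r)
  · refine (cancel_epi (cokernel.π r)).1 (Sigma.hom_ext _ _ fun j => ?_)
    simp [back, cc]
  · refine colimit.hom_ext fun j => ?_
    simp [back, cc]

theorem exists_cofan_epi {F : MVF A} (hF : Covered F) :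
    ∃ (ι : Type (u + 1)) (L : ι → MVF A), (∀ i, linAdequate A (L i)) ∧
      ∃ (c : Cofan L) (_ : IsColimit c) (π : c.pt ⟶ F), Epi π := by
  choose d π y hy using fun j : (Σ B : Alg A, F.obj (pt B)) => hF j.1 j.2
  refine ⟨_, fun j => (d j).L, fun j => (d j).linAdequate, _, coproductIsCoproduct (fun j => (d j).L),
    Sigma.desc π, PresheafOfModules.epi_of_surjective fun X x => ?_⟩
  let j : Σ B : Alg A, ↑(F.obj (pt B)) := ⟨X.unop.unop, x⟩
  refine ⟨(Sigma.ι (fun j => (d j).L) j).app X (y j), ?_⟩
  refine (app_comp_apply (Sigma.ι (fun j => (d j).L) j) (Sigma.desc π) X (y j)).symm.trans ?_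
  rw [Sigma.ι_desc]
  exact hy j

end Groth.Agent.AdeqLib
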