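import Groth.Agent.AdeqLib.Basic
import Mathlib.Algebra.Category.ModuleCat.EnoughInjectives
import Mathlib.CategoryTheory.Preadditive.Injective.Basic

/-!
# Enough injective module-valued functors
-/

set_option backward.isDefEq.respectTransparency false

universe u

open CategoryTheory Limits Opposite

namespace Groth.Agent.AdeqLib

open Adeq

variable {A : Type u} [CommRing A] (B₀ : Alg A) (J : ModuleCat.{u + 1} B₀)

/-- The values of the coinduced functor. -/
def CoindVal (X : (Alg A)ᵒᵖᵒᵖ) : Type (u + 1) := (X.unop.unop ⟶ B₀) → J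

namespace CoindVal

variable {B₀ J} (X : (Alg A)ᵒᵖᵒᵖ)

instance : AddCommGroup (CoindVal B₀ J X) := inferInstanceAs (AddCommGroup ((X.unop.unop ⟶ B₀) → J))

noncomputable instance : Module ((ringOf A).obj X) (CoindVal B₀ J X) :=
  letI : Module ((X.unop.unop ⟶ B₀) → (B₀ : Type u)) (CoindVal B₀ J X) := Pi.module'
  Module.compHom _ (RingHom.pi fun f : X.unop.unop ⟶ B₀ => f.hom.toRingHom)

theorem smul_apply (r : (ringOf A).obj X) (s : CoindVal B₀ J X) (f : X.unop.unop ⟶ B₀) :
    (r • s) f = f.hom r • s f := rfl

end CoindVal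

/-- The underlying functor of the coinduced functor. -/
noncomputable abbrev coindAb : (Alg A)ᵒᵖᵒᵖ ⥤ Ab.{u + 1} where
  obj X := AddCommGrpCat.of (CoindVal B₀ J X)
  map {X Y} g := AddCommGrpCat.ofHom
    { toFun := fun (s : CoindVal B₀ J X) (f : Y.unop.unop ⟶ B₀) => s (g.unop.unop ≫ f)
      map_zero' := rfl
      map_add' := fun _ _ => rfl }
  map_id X := by
    ext s
    funext f
    exact congrArg s (Category.id_comp f)
  map_comp g g' := by
    ext s
    funext f
    exact congrArg s (Category.assoc _ _ _)

/-- The functor coinduced from a module over `B₀`. -/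
noncomputable def coind : MVF A :=
  PresheafOfModules.ofPresheaf (coindAb B₀ J) (fun X Y g r s => by
    funext f
    exact CoindVal.smul_apply X r s (g.unop.unop ≫ f))

variable {B₀ J}

/-- The transpose of a linear map out of a value. -/
noncomputable def coindHom {F : MVF A} (φ : F.obj (pt B₀) ⟶ J) : F ⟶ coind B₀ J :=
  mvfHomMk (G := coind B₀ J) (fun B =>
    { toFun := fun x (f : B ⟶ B₀) => φ (F.map (ptHom f) x)
      map_add' := fun x y => funext fun f => by
        change φ (F.map (ptHom f) (x + y)) = φ (F.map (ptHom f) x) + φ (F.map (ptHom f) y)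
        rw [Fmap_add, map_add]
      map_smul' := fun b x => funext fun f => by
        change φ (F.map (ptHom f) (b • x)) = f.hom b • φ (F.map (ptHom f) x)
        rw [Fmap_smul]
        exact map_smul φ.hom (f.hom b) _ })
    (fun B B' g x => funext fun f => by
      change φ (F.map (ptHom f) (F.map (ptHom g) x)) = φ (F.map (ptHom (g ≫ f)) x)
      rw [Fmap_comp])

theorem coindHom_apply {F : MVF A} (φ : F.obj (pt B₀) ⟶ J) (B : Alg A) (x : F.obj (pt B))
    (f : B ⟶ B₀) : (coindHom φ).app (pt B) x f = φ (F.map (ptHom f) x) := rfl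

/-- The value at the identity. -/
noncomputable def coindEval {F : MVF A} (g : F ⟶ coind B₀ J) : F.obj (pt B₀) ⟶ J :=
  ModuleCat.ofHom
    { toFun := fun x => g.app (pt B₀) x (𝟙 B₀)
      map_add' := fun x y => congrFun (app_add g x y) (𝟙 B₀)
      map_smul' := fun b x => congrFun (app_smul g b x) (𝟙 B₀) }

theorem injective_coind [Injective J] : Injective (coind B₀ J) where
  factors {F G} g m _ := by
    have : Mono (m.app (pt B₀)) :=
      (ModuleCat.mono_iff_injective _).2 (PresheafOfModules.injective_of_mono m (pt B₀))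
    refine ⟨coindHom (Injective.factorThru (coindEval g) (m.app (pt B₀))), mvf_ext fun B x => ?_⟩
    funext f
    rw [app_comp_apply, coindHom_apply, ← nat_apply m f x]
    refine (ConcreteCategory.congr_hom
      (Injective.comp_factorThru (coindEval g) (m.app (pt B₀))) (F.map (ptHom f) x)).trans ?_
    change g.app (pt B₀) (F.map (ptHom f) x) (𝟙 B₀) = g.app (pt B) x f
    rw [nat_apply g f x]
    exact congrArg (g.app (pt B) x) (Category.comp_id f)

theorem enoughInjectives_MVF : EnoughInjectives (MVF A) := by
  refine ⟨fun F => ?_⟩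
  let J : Alg A → MVF A := fun B => coind B (Injective.under (F.obj (pt B)))
  have : ∀ B, Injective (J B) := fun B => injective_coind
  let e : F ⟶ ∏ᶜ J := Pi.lift fun B => coindHom (Injective.ι (F.obj (pt B)))
  have : Mono e := PresheafOfModules.mono_of_injective fun X x y hxy => by
    refine (ModuleCat.mono_iff_injective (Injective.ι (F.obj (pt X.unop.unop)))).1 inferInstance ?_
    let B := X.unop.unop
    have key : ∀ z : F.obj X, (Pi.π J B).app X (e.app X z) =
        (coindHom (Injective.ι (F.obj (pt B)))).app X z := fun z =>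
      congrArg (fun q : F ⟶ J B => q.app X z) (Pi.lift_π (fun B => coindHom (Injective.ι (F.obj (pt B)))) B)
    have h := congrFun ((key x).symm.trans ((congrArg _ hxy).trans (key y))) (𝟙 B)
    change (Injective.ι (F.obj (pt B))) (F.map (ptHom (𝟙 B)) x) =
      (Injective.ι (F.obj (pt B))) (F.map (ptHom (𝟙 B)) y) at h
    rw [Fmap_id, Fmap_id] at h
    exact h
  have : Injective (∏ᶜ J : MVF A) := inferInstance
  exact ⟨InjectivePresentation.mk (∏ᶜ J : MVF A) this e inferInstance⟩

end Groth.Agent.AdeqLib
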