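import Groth.Agent.AdeqLib.Ext
import Groth.Agent.AdeqLib.Inj
import Mathlib.CategoryTheory.Adjunction.Comma
import Mathlib.CategoryTheory.Preadditive.Injective.Basic

/-!
# The adequate coreflection
-/

set_option backward.isDefEq.respectTransparency false

universe u

open CategoryTheory Limits TensorProduct

namespace Groth.Agent.AdeqLib

open Adeq

variable {A : Type u} [CommRing A]

variable (A) in
/-- Indices of the standard linearly adequate functors. -/
abbrev StdIdx : Type u := Σ n m : ℕ, (Fin n → Fin m → A)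

/-- The standard presentation of an index. -/
noncomputable def stdPres (s : StdIdx A) : LinPres A where
  P := ModuleCat.of A (ULift.{u + 1} (Fin s.1 → A))
  P' := ModuleCat.of A (ULift.{u + 1} (Fin s.2.1 → A))
  finP := Module.Finite.equiv ULift.moduleEquiv.symm
  freeP := Module.Free.of_equiv ULift.moduleEquiv.symm
  finP' := Module.Finite.equiv ULift.moduleEquiv.symm
  freeP' := Module.Free.of_equiv ULift.moduleEquiv.symm
  φ := ModuleCat.ofHom (ULift.moduleEquiv.symm.toLinearMap ∘ₗ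
    Fintype.linearCombination A s.2.2 ∘ₗ ULift.moduleEquiv.toLinearMap)

theorem exists_iso_stdPres (d : LinPres A) : ∃ s : StdIdx A, Nonempty (d.L ≅ (stdPres s).L) := by
  obtain ⟨n, ⟨e⟩⟩ := exists_fin_basis (A := A) d.P
  obtain ⟨m, ⟨f⟩⟩ := exists_fin_basis (A := A) d.P'
  let s : StdIdx A := ⟨n, m, fun i => f.equivFun (d.φ.hom (e i))⟩
  let a : d.P ≅ (stdPres s).P := (e.equivFun.trans ULift.moduleEquiv.symm).toModuleIso
  let b : d.P' ≅ (stdPres s).P' := (f.equivFun.trans ULift.moduleEquiv.symm).toModuleIso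
  refine ⟨s, ⟨kernel.mapIso (umap d.φ) (umap (stdPres s).φ) ((underline A).mapIso a)
    ((underline A).mapIso b) ?_⟩⟩
  rw [Functor.mapIso_hom, Functor.mapIso_hom, ← Functor.map_comp, ← Functor.map_comp]
  refine congrArg _ (ModuleCat.hom_ext (e.ext fun i => ?_))
  apply ULift.ext
  change f.equivFun (d.φ.hom (e i)) =
    Fintype.linearCombination A (fun i => f.equivFun (d.φ.hom (e i))) (e.equivFun (e i))
  simp [Fintype.linearCombination_apply, Finsupp.single_apply]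

variable (F : MVF A)

theorem eq_zero_of_comp_desc {L X₁ X₀ G : MVF A} (r : X₁ ⟶ X₀) (π : X₀ ⟶ G) (hr : r ≫ π = 0)
    (hlift : ∀ q : X₀ ⟶ cokernel r, (∀ B : Alg A, Function.Surjective (q.app (pt B))) →
      ∀ l : L ⟶ cokernel r, ∃ σ, σ ≫ q = l)
    (hfac : ∀ σ : L ⟶ X₀, σ ≫ π = 0 → ∃ τ : L ⟶ X₁, τ ≫ r = σ) :
    ∀ l : L ⟶ cokernel r, l ≫ cokernel.desc r π hr = 0 → l = 0 := by
  intro l hl
  obtain ⟨σ, hσ⟩ := hlift (cokernel.π r) (fun B => cokernel_π_surjective r (pt B)) l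
  obtain ⟨τ, hτ⟩ := hfac σ (by
    rw [← cokernel.π_desc r π hr, ← Category.assoc, hσ]
    exact hl)
  rw [← hσ, ← hτ, Category.assoc, cokernel.condition]
  exact comp_zero

theorem eq_zero_of_covered {T G : MVF A} (hT : Covered T) (d : T ⟶ G)
    (h : ∀ (D : LinPres A) (p : D.L ⟶ T), p ≫ d = 0) : d = 0 := by
  refine mvf_ext fun B x => ?_
  obtain ⟨D, p, y, hy⟩ := hT B x
  rw [← hy, app_apply_of_comp_zero (h D p) (pt B) y]
  rfl

theorem exists_weak_terminal {S : Type u} (Ls : S → MVF A) (hLs : ∀ s, adequate A (Ls s))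
    (hlift : ∀ (s : S) (X Q : MVF A), adequate A X → adequate A Q → ∀ q : X ⟶ Q,
      (∀ B : Alg A, Function.Surjective (q.app (pt B))) → ∀ l : Ls s ⟶ Q, ∃ σ, σ ≫ q = l) :
    ∃ (Q : MVF A) (ε : Q ⟶ F), adequate A Q ∧
      (∀ (s : S) (g : Ls s ⟶ F), ∃ l : Ls s ⟶ Q, l ≫ ε = g) ∧
      (∀ (s : S) (l : Ls s ⟶ Q), l ≫ ε = 0 → l = 0) := by
  let J₀ : Type (u + 1) := Σ s : S, Ls s ⟶ F
  let L₀ : J₀ → MVF A := fun j => Ls j.1
  let π : (∐ L₀) ⟶ F := Sigma.desc fun j => j.2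
  let J₁ : Type (u + 1) := Σ s : S, Ls s ⟶ kernel π
  let L₁ : J₁ → MVF A := fun j => Ls j.1
  let r : (∐ L₁) ⟶ ∐ L₀ := Sigma.desc fun j => j.2 ≫ kernel.ι π
  have hr : r ≫ π = 0 := Sigma.hom_ext _ _ fun j => by simp [r]
  have hX₀ : adequate A (∐ L₀) := adequate_sigma L₀ fun j => hLs j.1
  have hX₁ : adequate A (∐ L₁) := adequate_sigma L₁ fun j => hLs j.1
  have hQ : adequate A (cokernel r) := adequate_cokernel (covered_of_adequate hX₁) hX₀ r
  refine ⟨cokernel r, cokernel.desc r π hr, hQ,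
    fun s g => ⟨Sigma.ι L₀ ⟨s, g⟩ ≫ cokernel.π r, by simp [π]⟩, fun s => ?_⟩
  refine eq_zero_of_comp_desc r π hr (fun q hq l => hlift s _ _ hX₀ hQ q hq l) fun σ hσπ => ?_
  exact ⟨Sigma.ι L₁ ⟨s, kernel.lift π σ hσπ⟩, by simp [r]⟩

theorem terminal_of_weak {S : Type u} (Ls : S → MVF A)
    (hiso : ∀ d : LinPres A, ∃ s, Nonempty (d.L ≅ Ls s)) {Q : MVF A} (ε : Q ⟶ F)
    (hex : ∀ (s : S) (g : Ls s ⟶ F), ∃ l : Ls s ⟶ Q, l ≫ ε = g)
    (hun : ∀ (s : S) (l : Ls s ⟶ Q), l ≫ ε = 0 → l = 0) :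
    (∀ (T : MVF A), adequate A T → ∀ h : T ⟶ F, ∃ q : T ⟶ Q, q ≫ ε = h) ∧
      (∀ (T : MVF A), adequate A T → ∀ d : T ⟶ Q, d ≫ ε = 0 → d = 0) := by
  have huniq : ∀ (T : MVF A), adequate A T → ∀ d : T ⟶ Q, d ≫ ε = 0 → d = 0 := fun T hT d hd =>
    eq_zero_of_covered (covered_of_adequate hT) d fun D p => by
      obtain ⟨s, ⟨e⟩⟩ := hiso D
      have h0 := hun s (e.inv ≫ p ≫ d) (by simp [hd])
      rw [← e.hom_inv_id_assoc (p ≫ d), h0, comp_zero]
  refine ⟨fun T hT h => ?_, huniq⟩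
  choose D p y hy using fun j : (Σ B : Alg A, T.obj (pt B)) => covered_of_adequate hT j.1 j.2
  have hq' : ∀ j, ∃ q : (D j).L ⟶ Q, q ≫ ε = p j ≫ h := fun j => by
    obtain ⟨s, ⟨e⟩⟩ := hiso (D j)
    obtain ⟨l, hl⟩ := hex s (e.inv ≫ p j ≫ h)
    exact ⟨e.hom ≫ l, by rw [Category.assoc, hl, e.hom_inv_id_assoc]⟩
  choose q hq using hq'
  let P : (∐ fun j => (D j).L) ⟶ T := Sigma.desc p
  have hP : ∀ X : ((Alg A)ᵒᵖ)ᵒᵖ, Function.Surjective (P.app X) := fun X x => by
    let j : Σ B : Alg A, T.obj (pt B) := ⟨X.unop.unop, x⟩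
    exact ⟨(Sigma.ι (fun j => (D j).L) j).app X (y j),
      (congrArg (fun w : (D j).L ⟶ T => w.app X (y j)) (Sigma.ι_desc p j)).trans (hy j)⟩
  have hqε : Sigma.desc q ≫ ε = P ≫ h := Sigma.hom_ext _ _ fun j => by simp [P, hq]
  have hadq : adequate A (kernel P) :=
    adequate_kernel (adequate_sigma _ fun j => ⟨_, _, (D j).φ, ⟨Iso.refl _⟩⟩) hT P
  have hker : kernel.ι P ≫ Sigma.desc q = 0 := huniq _ hadq _
    (by rw [Category.assoc, hqε, kernel.condition_assoc, zero_comp])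
  obtain ⟨g, hg⟩ := exists_desc P hP (Sigma.desc q) (fun X z hz => by
    obtain ⟨w, hw⟩ := exists_kernel_ι P X z hz
    exact hw ▸ app_apply_of_comp_zero hker X w)
  have : Epi P := PresheafOfModules.epi_of_surjective hP
  exact ⟨g, (cancel_epi P).1 (by rw [← Category.assoc, hg, hqε])⟩

theorem exists_terminal :
    ∃ (Q : MVF A) (ε : Q ⟶ F), adequate A Q ∧
      (∀ (T : MVF A), adequate A T → ∀ h : T ⟶ F, ∃ q : T ⟶ Q, q ≫ ε = h) ∧
      (∀ (T : MVF A), adequate A T → ∀ d : T ⟶ Q, d ≫ ε = 0 → d = 0) := by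
  obtain ⟨Q, ε, hQ, hex, hun⟩ := exists_weak_terminal F (fun s => (stdPres (A := A) s).L)
    (fun s => ⟨_, _, (stdPres s).φ, ⟨Iso.refl _⟩⟩)
    (fun s _ _ hX hQ q hq l => exists_lift_lin (adequate_kernel hX hQ q) hQ (kernel.ι q) q
      (fun B => kernel_ι_injective _ (pt B)) hq
      (fun B y => ⟨fun hy => exists_kernel_ι _ (pt B) y hy,
        fun ⟨x, hx⟩ => hx ▸ app_kernel_ι q (pt B) x⟩) (stdPres s) l)
  exact ⟨Q, ε, hQ, terminal_of_weak F _ exists_iso_stdPres ε hex hun⟩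

theorem isLeftAdjoint_ι : (adequate A).ι.IsLeftAdjoint := by
  rw [isLeftAdjoint_iff_hasTerminal_costructuredArrow]
  intro F
  obtain ⟨Q, ε, hQ, hex, huniq⟩ := exists_terminal F
  refine IsTerminal.hasTerminal (X := CostructuredArrow.mk (Y := (⟨Q, hQ⟩ : Adequate A)) ε) ?_
  refine IsTerminal.ofUniqueHom (fun c =>
    CostructuredArrow.homMk (ObjectProperty.homMk (hex c.left.obj c.left.property c.hom).choose)
      (hex c.left.obj c.left.property c.hom).choose_spec) (fun c m => ?_)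
  refine CostructuredArrow.hom_ext _ _ (ObjectProperty.hom_ext _ (sub_eq_zero.1
    (huniq c.left.obj c.left.property _ ?_)))
  have h1 : m.left.hom ≫ ε = c.hom := CostructuredArrow.w m
  rw [Preadditive.sub_comp, h1]
  exact sub_eq_zero.2 (hex c.left.obj c.left.property c.hom).choose_spec.symm

theorem preservesMonomorphisms_ι : ((adequate A).ι).PreservesMonomorphisms where
  preserves {X Y} f hf := by
    refine Preadditive.mono_of_cancel_zero _ fun {W} g hg => ?_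
    let K : Adequate A := ⟨kernel f.hom, adequate_kernel X.property Y.property f.hom⟩
    let k : K ⟶ X := ObjectProperty.homMk (kernel.ι f.hom)
    have hk : k ≫ f = (ObjectProperty.homMk (0 : K.obj ⟶ X.obj) : K ⟶ X) ≫ f :=
      ObjectProperty.hom_ext _ (by
        change kernel.ι f.hom ≫ f.hom = 0 ≫ f.hom
        rw [kernel.condition, zero_comp])
    have hk0 : kernel.ι f.hom = 0 :=
      congrArg (fun q : K ⟶ X => q.hom) ((cancel_mono f).1 hk)
    rw [← kernel.lift_ι f.hom g hg, hk0, comp_zero]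

theorem enoughInjectives_adequate : EnoughInjectives (Adequate A) := by
  have := isLeftAdjoint_ι (A := A)
  have := preservesMonomorphisms_ι (A := A)
  let adj := Adjunction.ofIsLeftAdjoint (adequate A).ι
  have := enoughInjectives_MVF (A := A)
  refine ⟨fun X => ?_⟩
  obtain ⟨I⟩ := EnoughInjectives.presentation X.obj
  have := I.mono
  let e : X ⟶ (adequate A).ι.rightAdjoint.obj I.J := adj.homEquiv X I.J I.f
  have : Mono e := by
    refine ⟨fun g g' h => ObjectProperty.hom_ext _ ((cancel_mono I.f).1 ?_)⟩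
    have hI : (adj.homEquiv X I.J).symm e = I.f := Equiv.symm_apply_apply _ _
    rw [← hI]
    exact (adj.homEquiv_naturality_left_symm g e).symm.trans
      ((congrArg _ h).trans (adj.homEquiv_naturality_left_symm g' e))
  exact ⟨InjectivePresentation.mk _ (adj.map_injective _ I.injective) e inferInstance⟩

end Groth.Agent.AdeqLib
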