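import Groth.Agent.AdeqLib.Linear
import Mathlib.LinearAlgebra.Finsupp.Pi
import Mathlib.LinearAlgebra.TensorProduct.Finiteness
import Mathlib.RingTheory.Finiteness.Prod
import Mathlib.LinearAlgebra.FreeModule.Finite.Basic

/-!
# Adequate functors are covered by linearly adequate ones; cokernels of maps into `underline M`
-/

universe u

open CategoryTheory Limits TensorProduct DirectSum

namespace Groth.Agent.AdeqLib

open Adeq

variable {A : Type u} [CommRing A]

section DirectSum

variable {ι : Type (u + 1)} [DecidableEq ι] {P : ι → Type (u + 1)} [∀ i, AddCommGroup (P i)]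
  [∀ i, Module A (P i)] {B : Type u} [CommRing B] [Algebra A B]

theorem exists_finset_sum_lof (w : B ⊗[A] (⨁ i, P i)) :
    ∃ s : Finset ι, (∀ t, s ⊆ t → w = ∑ i ∈ t,
      (DirectSum.lof A ι P i).baseChange B ((DirectSum.component A ι P i).baseChange B w)) := by
  classical
  induction w using TensorProduct.induction_on with
  | zero => exact ⟨∅, fun t _ => by simp⟩
  | tmul b x =>
    refine ⟨DFinsupp.support x, fun t ht => ?_⟩
    simp only [LinearMap.baseChange_tmul, ← TensorProduct.tmul_sum]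
    congr 1
    conv_lhs => rw [← DirectSum.sum_support_of x]
    refine Finset.sum_subset ht fun i _ hi => ?_
    rw [DFinsupp.notMem_support_iff.1 hi, map_zero]
  | add x y hx hy =>
    obtain ⟨s, hs⟩ := hx
    obtain ⟨s', hs'⟩ := hy
    refine ⟨s ∪ s', fun t ht => ?_⟩
    conv_lhs => rw [hs t (Finset.union_subset_left ht), hs' t (Finset.union_subset_right ht)]
    rw [← Finset.sum_add_distrib]
    exact Finset.sum_congr rfl fun i _ => by rw [map_add, map_add]

theorem eq_zero_of_component (w : B ⊗[A] (⨁ i, P i))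
    (h : ∀ i, (DirectSum.component A ι P i).baseChange B w = 0) : w = 0 := by
  obtain ⟨s, hs⟩ := exists_finset_sum_lof w
  rw [hs s subset_rfl]
  exact Finset.sum_eq_zero fun i _ => by rw [h i, map_zero]

end DirectSum

/-- A map of finite free modules, presenting a linearly adequate functor. -/
structure LinPres (A : Type u) [CommRing A] where
  /-- source -/
  P : ModuleCat.{u + 1} A
  /-- target -/
  P' : ModuleCat.{u + 1} A
  finP : Module.Finite A P
  freeP : Module.Free A P
  finP' : Module.Finite A P'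
  freeP' : Module.Free A P'
  /-- the map -/
  φ : P ⟶ P'

namespace LinPres

variable (d : LinPres A)

instance : Module.Finite A d.P := d.finP
instance : Module.Free A d.P := d.freeP
instance : Module.Finite A d.P' := d.finP'
instance : Module.Free A d.P' := d.freeP'

/-- The linearly adequate functor of a presentation. -/
noncomputable abbrev L : MVF A := kernel (umap d.φ)

theorem linAdequate : Adeq.linAdequate A d.L :=
  ⟨d.P, d.P', d.φ, d.finP, d.freeP, d.finP', d.freeP', ⟨Iso.refl _⟩⟩

end LinPres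

theorem isKerU_kernel {M N : ModuleCat.{u + 1} A} (f : M ⟶ N) :
    IsKerU (kernel.ι (umap f)) f where
  inj B := kernel_ι_injective _ (pt B)
  iff B y := ⟨fun hy => exists_kernel_ι (umap f) (pt B) y hy,
    fun ⟨x, hx⟩ => hx ▸ app_kernel_ι (umap f) (pt B) x⟩

theorem exists_isKerU_lin {L : MVF A} (hL : linAdequate A L) :
    ∃ (d : LinPres A), Nonempty (L ≅ d.L) := by
  obtain ⟨P, P', φ, h1, h2, h3, h4, e⟩ := hL
  exact ⟨⟨P, P', h1, h2, h3, h4, φ⟩, e⟩

theorem IsKerU.app_eq_zero {F : MVF A} {M N : ModuleCat.{u + 1} A} {i : F ⟶ uobj M} {f : M ⟶ N}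
    (h : IsKerU i f) (B : Alg A) (x : F.obj (pt B)) : f.hom.baseChange B (i.app (pt B) x) = 0 :=
  (h.iff B _).2 ⟨x, rfl⟩

theorem IsKerU.nat {F : MVF A} {M : ModuleCat.{u + 1} A} (i : F ⟶ uobj M)
    {B B' : Alg A} (h : B ⟶ B') (x : F.obj (pt B)) :
    i.app (pt B') (F.map (ptHom h) x) = h.hom.toLinearMap.rTensor M (i.app (pt B) x) :=
  nat_apply i h x

/-- A natural family compatible with scalars on a linearly adequate functor, with values in
`B ⊗ M`, extends to a linear map of modules. -/
theorem exists_extend (d : LinPres A) {F : MVF A} {i : F ⟶ uobj d.P} (hi : IsKerU i d.φ)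
    {M : ModuleCat.{u + 1} A} (φ : ∀ B : Alg A, F.obj (pt B) → B ⊗[A] M)
    (hnat : ∀ ⦃B B' : Alg A⦄ (h : B ⟶ B') (x : F.obj (pt B)),
      φ B' (F.map (ptHom h) x) = h.hom.toLinearMap.rTensor M (φ B x))
    (hsmul : ∀ (B : Alg A) (b : B) (x : F.obj (pt B)), φ B (b • x) = b • φ B x) :
    ∃ g : d.P ⟶ M, ∀ (B : Alg A) (x : F.obj (pt B)), φ B x = g.hom.baseChange B (i.app (pt B) x) := by
  let inv : ∀ B : Alg A, B ⊗[A] d.P → F.obj (pt B) := fun B => Function.invFun (i.app (pt B))
  have hinv : ∀ B x, inv B (i.app (pt B) x) = x := fun B => Function.leftInverse_invFun (hi.inj B)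
  obtain ⟨g, hg⟩ := exists_eq_baseChange d.φ.hom (fun B y => φ B (inv B y))
    (fun B B' h y hy => by
      obtain ⟨x, rfl⟩ := (hi.iff B y).1 hy
      refine ((congrArg (fun z => φ B' (inv B' z)) (IsKerU.nat i h x).symm).trans
        ((congrArg (φ B') (hinv B' _)).trans (hnat h x))).trans ?_
      exact congrArg (fun z => h.hom.toLinearMap.rTensor M (φ B z)) (hinv B x).symm)
    (fun B b y hy => by
      obtain ⟨x, rfl⟩ := (hi.iff B y).1 hy
      refine ((congrArg (fun z => φ B (inv B z)) (app_smul i b x).symm).trans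
        ((congrArg (φ B) (hinv B _)).trans (hsmul B b x))).trans ?_
      exact congrArg (fun z => b • φ B z) (hinv B x).symm)
  exact ⟨ModuleCat.ofHom g, fun B x => (congrArg (φ B) (hinv B x).symm).trans (hg B _ (hi.app_eq_zero B x))⟩

/-- A morphism from a linearly adequate functor to `underline M` extends. -/
theorem exists_extend_hom (d : LinPres A) {M : ModuleCat.{u + 1} A} (φ : d.L ⟶ uobj M) :
    ∃ g : d.P ⟶ M, kernel.ι (umap d.φ) ≫ umap g = φ := by
  obtain ⟨g, hg⟩ := exists_extend d (isKerU_kernel d.φ) (fun B x => φ.app (pt B) x)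
    (fun B B' h x => nat_apply φ h x) (fun B b x => app_smul φ b x)
  exact ⟨g, mvf_ext fun B x => (hg B x).symm⟩

/-- A map vanishing on a linearly adequate functor factors through the presentation. -/
theorem exists_factor_hom (d : LinPres A) {M : ModuleCat.{u + 1} A} (g : d.P ⟶ M)
    (hg : kernel.ι (umap d.φ) ≫ umap g = 0) : ∃ h : d.P' ⟶ M, d.φ ≫ h = g := by
  obtain ⟨h, hh⟩ := exists_factor d.φ.hom g.hom (fun B y hy => by
    obtain ⟨x, hx⟩ := exists_kernel_ι (umap d.φ) (pt B) y hy
    rw [← hx]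
    exact app_apply_of_comp_zero hg (pt B) x)
  exact ⟨ModuleCat.ofHom h, ModuleCat.hom_ext hh⟩

/-- Every element comes from a linearly adequate functor. -/
def Covered (F : MVF A) : Prop :=
  ∀ (B : Alg A) (x : F.obj (pt B)),
    ∃ (d : LinPres A) (π : d.L ⟶ F) (y : ↑(d.L.obj (pt B))), π.app (pt B) y = x

theorem covered_of_adequate {F : MVF A} (hF : adequate A F) : Covered F := by
  classical
  obtain ⟨M, N, f, i, hi⟩ := exists_isKerU hF
  intro B x
  obtain ⟨S, hS⟩ := TensorProduct.exists_finset (i.app (pt B) x : B ⊗[A] M)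
  -- a presentation of `N`
  let s : M → (N →₀ A) := fun m => Finsupp.single (f.hom m) 1
  let ev : (N →₀ A) →ₗ[A] N := Finsupp.linearCombination A id
  have hev : Function.Surjective ev := fun y => ⟨Finsupp.single y 1, by simp [ev]⟩
  have hex : Function.Exact (LinearMap.ker ev).subtype ev := LinearMap.exact_subtype_ker_map ev
  have h0 : ev.baseChange B (∑ p ∈ S, p.1 ⊗ₜ[A] s p.2) = 0 := by
    have := hi.app_eq_zero B x
    rw [hS, map_sum] at this
    simpa [ev, s] using this
  obtain ⟨w, hw⟩ := (exact_baseChange (M := ↥(LinearMap.ker ev)) (f := (LinearMap.ker ev).subtype) hex hev B _).1 h0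
  obtain ⟨W, hW⟩ := TensorProduct.exists_finset w
  -- the finite free modules
  let T : Finset N := (S.image fun p => f.hom p.2) ∪
    W.biUnion fun q => (q.2 : N →₀ A).support
  let proj : (N →₀ A) →ₗ[A] (T → A) :=
    LinearMap.pi fun t => Finsupp.lapply (t : N)
  let back : (T → A) →ₗ[A] (N →₀ A) :=
    ∑ t : T, (Finsupp.lsingle (t : N)) ∘ₗ LinearMap.proj t
  have hback : ∀ v : N →₀ A, v.support ⊆ T → back (proj v) = v := by
    intro v hv
    simp only [back, proj, LinearMap.sum_apply, LinearMap.comp_apply, LinearMap.proj_apply,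
      LinearMap.pi_apply, Finsupp.lapply_apply, Finsupp.lsingle_apply]
    rw [← Finset.attach_eq_univ, Finset.sum_attach T (fun t => Finsupp.single t (v t))]
    exact (Finsupp.sum_of_support_subset _ hv _ (by simp)).symm.trans (Finsupp.sum_single v)
  let e₁ : (S → A) →ₗ[A] M := Fintype.linearCombination A fun p : S => (p : B × M).2
  let φ₁ : (S → A) →ₗ[A] (T → A) :=
    Fintype.linearCombination A fun p : S => proj (s (p : B × M).2)
  let φ₂ : (W → A) →ₗ[A] (T → A) :=
    Fintype.linearCombination A fun q : W => proj ((q : B × LinearMap.ker ev).2 : N →₀ A)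
  let d : LinPres A :=
    { P := ModuleCat.of A (ULift.{u + 1} ((S → A) × (W → A)))
      P' := ModuleCat.of A (ULift.{u + 1} (T → A))
      finP := Module.Finite.equiv ULift.moduleEquiv.symm
      freeP := Module.Free.of_equiv ULift.moduleEquiv.symm
      finP' := Module.Finite.equiv ULift.moduleEquiv.symm
      freeP' := Module.Free.of_equiv ULift.moduleEquiv.symm
      φ := ModuleCat.ofHom (ULift.moduleEquiv.symm.toLinearMap ∘ₗ φ₁.coprod φ₂ ∘ₗ
        ULift.moduleEquiv.toLinearMap) }
  let g : d.P ⟶ M := ModuleCat.ofHom (e₁ ∘ₗ LinearMap.fst A _ _ ∘ₗ ULift.moduleEquiv.toLinearMap)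
  let h : d.P' ⟶ N := ModuleCat.ofHom (ev ∘ₗ back ∘ₗ ULift.moduleEquiv.toLinearMap)
  have hcomm : g ≫ f = d.φ ≫ h := by
    refine ModuleCat.hom_ext (LinearMap.ext fun z => ?_)
    obtain ⟨⟨c, c'⟩⟩ := z
    change f.hom (e₁ c) = ev (back (φ₁ c + φ₂ c'))
    simp only [e₁, φ₁, φ₂, Fintype.linearCombination_apply, map_add, map_sum, map_smul]
    have hz : ∀ q : W, ev (back (proj ((q : B × LinearMap.ker ev).2 : N →₀ A))) = 0 := fun q => by
      rw [hback _ (fun t ht => Finset.mem_union_right _ (Finset.mem_biUnion.2 ⟨q, q.2, ht⟩))]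
      exact (q : B × LinearMap.ker ev).2.2
    simp only [hz, smul_zero, Finset.sum_const_zero, add_zero]
    refine Finset.sum_congr rfl fun p _ => ?_
    rw [hback _ (fun t ht => Finset.mem_union_left _ (Finset.mem_image.2 ⟨p, p.2, ?_⟩))]
    · simp [ev, s]
    · exact (Finsupp.mem_support_single _ _ _ |>.1 ht).1.symm
  obtain ⟨π, hπ⟩ := exists_lift i (fun X => hi.inj X.unop.unop) (kernel.ι (umap d.φ) ≫ umap g)
    (fun X t => (hi.iff X.unop.unop _).1 (by
      change (umap f).app X ((kernel.ι (umap d.φ) ≫ umap g).app X t) = 0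
      refine app_apply_of_comp_zero ?_ X t
      rw [Category.assoc, ← Functor.map_comp, hcomm, Functor.map_comp, kernel.condition_assoc,
        zero_comp]))
  let e : S → (S → A) × (W → A) := fun p => (Pi.single p 1, 0)
  let e' : W → (S → A) × (W → A) := fun q => (0, Pi.single q 1)
  let y : B ⊗[A] d.P := (∑ p : S, (p : B × M).1 ⊗ₜ[A] (ULift.up (e p) : d.P)) -
    ∑ q : W, (q : B × LinearMap.ker ev).1 ⊗ₜ[A] (ULift.up (e' q) : d.P)
  have hy : d.φ.hom.baseChange B y = 0 := by
    have h1 : ∀ p : S, d.φ.hom (ULift.up (e p)) = ULift.up (proj (s (p : B × M).2)) := fun p => by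
      refine ULift.ext _ _ ?_
      change φ₁ (Pi.single p 1) + φ₂ 0 = _
      simp [φ₁]
    have h2 : ∀ q : W, d.φ.hom (ULift.up (e' q)) =
        ULift.up (proj ((q : B × LinearMap.ker ev).2 : N →₀ A)) := fun q => by
      refine ULift.ext _ _ ?_
      change φ₁ 0 + φ₂ (Pi.single q 1) = _
      simp [φ₂]
    simp only [y, map_sub, map_sum, LinearMap.baseChange_tmul, h1, h2]
    let up : (N →₀ A) →ₗ[A] d.P' := ULift.moduleEquiv.symm.toLinearMap ∘ₗ proj
    have h3 : up.baseChange B (∑ p : S, (p : B × M).1 ⊗ₜ[A] s (p : B × M).2 -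
        ∑ q : W, (q : B × LinearMap.ker ev).1 ⊗ₜ[A] ((q : B × LinearMap.ker ev).2 : N →₀ A)) = 0 := by
      rw [Finset.sum_coe_sort S (fun p => p.1 ⊗ₜ[A] s p.2),
        Finset.sum_coe_sort W (fun q => q.1 ⊗ₜ[A] (q.2 : N →₀ A)), ← hw, hW]
      simp
    simp only [map_sub, map_sum, LinearMap.baseChange_tmul] at h3
    exact h3
  obtain ⟨z, hz⟩ := exists_kernel_ι (umap d.φ) (pt B) y hy
  refine ⟨d, π, z, hi.inj B ?_⟩
  rw [← app_comp_apply, hπ, app_comp_apply, hz]
  change g.hom.baseChange B y = _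
  rw [hS, ← Finset.sum_coe_sort S]
  have h1 : ∀ p : S, g.hom (ULift.up (e p)) = (p : B × M).2 := fun p => by
    change e₁ (Pi.single p 1) = _
    simp [e₁]
  have h2 : ∀ q : W, g.hom (ULift.up (e' q)) = 0 := fun q => by
    change e₁ 0 = 0
    simp
  simp only [y, map_sub, map_sum, LinearMap.baseChange_tmul, h1, h2, tmul_zero,
    Finset.sum_const_zero, sub_zero]

/-- The structure of the cokernel of a map from a covered functor into `underline M`. -/
theorem exists_coker {F : MVF A} (hF : Covered F) {M : ModuleCat.{u + 1} A} (ψ : F ⟶ uobj M) :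
    ∃ (Q C : ModuleCat.{u + 1} A) (a : M ⟶ Q) (c : Q ⟶ C), Function.Surjective c.hom ∧
      (∀ (B : Alg A) (y : B ⊗[A] M), a.hom.baseChange B y = 0 ↔ ∃ x, ψ.app (pt B) x = y) ∧
      (∀ (B : Alg A) (z : B ⊗[A] Q), c.hom.baseChange B z = 0 ↔ ∃ y, a.hom.baseChange B y = z) ∧
      (∀ (N : ModuleCat.{u + 1} A) (f : M ⟶ N), ψ ≫ umap f = 0 → ∃ h : Q ⟶ N, a ≫ h = f) := by
  classical
  let ι : Type (u + 1) := Σ B : Alg A, ↑(F.obj (pt B))
  choose d π y hy using fun j : ι => hF j.1 j.2
  choose g hg using fun j : ι => exists_extend_hom (d j) (π j ≫ ψ)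
  let P := ⨁ j, (d j).P
  let P' := ⨁ j, (d j).P'
  let Φ : P →ₗ[A] P' := DirectSum.toModule A ι P' fun j =>
    DirectSum.lof A ι (fun j => (d j).P') j ∘ₗ (d j).φ.hom
  let G : P →ₗ[A] M := DirectSum.toModule A ι M fun j => (g j).hom
  let R := LinearMap.range (Φ.prod G)
  let a₀ : M →ₗ[A] (P' × M) ⧸ R := R.mkQ ∘ₗ LinearMap.inr A P' M
  let c₀ : ((P' × M) ⧸ R) →ₗ[A] P' ⧸ LinearMap.range Φ :=
    R.liftQ ((LinearMap.range Φ).mkQ ∘ₗ LinearMap.fst A P' M) (by
      rintro _ ⟨p, rfl⟩
      exact (Submodule.Quotient.mk_eq_zero _).2 ⟨p, rfl⟩)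
  have hexQ : ∀ B : Alg A, Function.Exact ((Φ.prod G).baseChange B) (R.mkQ.baseChange B) := fun B =>
    exact_baseChange (LinearMap.exact_map_mkQ_range _) (Submodule.mkQ_surjective _) B
  have hexC : ∀ B : Alg A, Function.Exact (Φ.baseChange B) ((LinearMap.range Φ).mkQ.baseChange B) :=
    fun B => exact_baseChange (LinearMap.exact_map_mkQ_range _) (Submodule.mkQ_surjective _) B
  have hfst : LinearMap.fst A P' M ∘ₗ Φ.prod G = Φ := LinearMap.fst_prod _ _
  have hsnd : LinearMap.snd A P' M ∘ₗ Φ.prod G = G := LinearMap.snd_prod _ _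
  have hcomp : ∀ j, DirectSum.component A ι (fun j => (d j).P') j ∘ₗ Φ =
      (d j).φ.hom ∘ₗ DirectSum.component A ι (fun j => (d j).P) j := by
    intro j
    refine DirectSum.linearMap_ext A fun k => LinearMap.ext fun p => ?_
    simp only [LinearMap.comp_apply, Φ, DirectSum.toModule_lof]
    rcases eq_or_ne k j with rfl | hne
    · exact (DirectSum.component.lof_self A k _).trans (congrArg _ (DirectSum.component.lof_self A (M := fun j => ↥((d j).P)) k p).symm)
    · refine (DirectSum.component.of A j k _).trans ?_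
      rw [dif_neg hne, show DirectSum.component A ι (fun j => ↥((d j).P)) j
        (DirectSum.lof A ι (fun j => ↥((d j).P)) k p) = 0 from
          (DirectSum.component.of A j k _).trans (dif_neg hne), map_zero]
  refine ⟨ModuleCat.of A ((P' × M) ⧸ R), ModuleCat.of A (P' ⧸ LinearMap.range Φ),
    ModuleCat.ofHom a₀, ModuleCat.ofHom c₀, ?_, fun B y' => ⟨fun h => ?_, ?_⟩,
    fun B z => ⟨fun h => ?_, ?_⟩, fun N f hf => ?_⟩
  · intro z
    obtain ⟨p, rfl⟩ := Submodule.mkQ_surjective _ z
    exact ⟨R.mkQ (p, 0), rfl⟩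
  · rw [show (ModuleCat.ofHom a₀).hom = R.mkQ ∘ₗ LinearMap.inr A P' M from rfl,
      baseChange_comp_apply] at h
    obtain ⟨w, hw⟩ := (hexQ B _).1 h
    have h1 : Φ.baseChange B w = 0 := by
      rw [← hfst, baseChange_comp_apply, hw, ← baseChange_comp_apply, LinearMap.fst_comp_inr]
      simp
    have h2 : G.baseChange B w = y' := by
      rw [← hsnd, baseChange_comp_apply, hw, ← baseChange_comp_apply, LinearMap.snd_comp_inr,
        LinearMap.baseChange_id, LinearMap.id_apply]
    obtain ⟨s, hs⟩ := exists_finset_sum_lof w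
    have hcomp0 : ∀ j, (d j).φ.hom.baseChange B
        ((DirectSum.component A ι (fun j => (d j).P) j).baseChange B w) = 0 := fun j => by
      rw [← baseChange_comp_apply, ← hcomp j, baseChange_comp_apply, h1, map_zero]
    choose x hx using fun j => exists_kernel_ι (umap (d j).φ) (pt B) _ (hcomp0 j)
    refine ⟨∑ j ∈ s, (π j).app (pt B) (x j), ?_⟩
    rw [← h2]
    conv_rhs => rw [hs s subset_rfl]
    erw [map_sum]
    rw [map_sum]
    refine Finset.sum_congr rfl fun j _ => ?_
    rw [← baseChange_comp_apply]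
    have : G ∘ₗ DirectSum.lof A ι (fun j => (d j).P) j = (g j).hom :=
      LinearMap.ext fun p => DirectSum.toModule_lof A (φ := fun j => (g j).hom) j p
    rw [this, ← app_comp_apply, ← hg j, app_comp_apply, hx j]
    rfl
  · rintro ⟨x, rfl⟩
    let j : ι := ⟨B, x⟩
    have hxj : ψ.app (pt B) x = (g j).hom.baseChange B ((kernel.ι (umap (d j).φ)).app (pt B) (y j)) :=
      (congrArg (ψ.app (pt B)) (hy j).symm).trans
        ((app_comp_apply (π j) ψ (pt B) (y j)).symm.trans (by rw [← hg j]; rfl))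
    rw [hxj]
    set p := (kernel.ι (umap (d j).φ)).app (pt B) (y j) with hp
    have hp0 : (d j).φ.hom.baseChange B p = 0 := app_kernel_ι (umap (d j).φ) (pt B) (y j)
    change (R.mkQ ∘ₗ LinearMap.inr A P' M).baseChange B ((g j).hom.baseChange B p) = 0
    refine (baseChange_comp_apply (g j).hom _ _).symm.trans ?_
    have key : (R.mkQ ∘ₗ LinearMap.inr A P' M) ∘ₗ (g j).hom =
        -((R.mkQ ∘ₗ LinearMap.inl A P' M ∘ₗ DirectSum.lof A ι (fun j => (d j).P') j) ∘ₗ
          (d j).φ.hom) := by
      refine LinearMap.ext fun q => ?_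
      rw [LinearMap.neg_apply]
      refine eq_neg_of_add_eq_zero_left ?_
      refine (map_add R.mkQ _ _).symm.trans ((Submodule.Quotient.mk_eq_zero _).2
        ⟨DirectSum.lof A ι (fun j => (d j).P) j q, ?_⟩)
      refine Prod.ext ?_ ?_
      · refine (DirectSum.toModule_lof A (φ := fun j => DirectSum.lof A ι (fun j => ↥((d j).P')) j ∘ₗ (d j).φ.hom) j q).trans ?_
        simp
      · refine (DirectSum.toModule_lof A (φ := fun j => (g j).hom) j q).trans ?_
        simp
    rw [key, LinearMap.baseChange_neg]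
    refine neg_eq_zero.2 ((baseChange_comp_apply _ _ _).trans ?_)
    exact (congrArg _ hp0).trans (map_zero _)
  · obtain ⟨v, rfl⟩ := surjective_baseChange (Submodule.mkQ_surjective R) B z
    change c₀.baseChange B (R.mkQ.baseChange B v) = 0 at h
    rw [← baseChange_comp_apply, Submodule.liftQ_mkQ, baseChange_comp_apply] at h
    obtain ⟨w, hw⟩ := (hexC B _).1 h
    refine ⟨(LinearMap.snd A P' M).baseChange B (v - (Φ.prod G).baseChange B w), ?_⟩
    change a₀.baseChange B _ = _
    rw [baseChange_comp_apply]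
    have : (LinearMap.inr A P' M).baseChange B
        ((LinearMap.snd A P' M).baseChange B (v - (Φ.prod G).baseChange B w)) =
        v - (Φ.prod G).baseChange B w := by
      refine sub_eq_zero.1 (eq_zero_of_baseChange_fst_snd _ ?_ ?_)
      · rw [map_sub, ← baseChange_comp_apply (LinearMap.inr A P' M), LinearMap.fst_comp_inr]
        simp [← baseChange_comp_apply (Φ.prod G), hw]
      · rw [map_sub, ← baseChange_comp_apply (LinearMap.inr A P' M), LinearMap.snd_comp_inr,
          LinearMap.baseChange_id, LinearMap.id_apply, sub_self]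
    rw [this, map_sub, (hexQ B).apply_apply_eq_zero, sub_zero]
  · rintro ⟨y'', rfl⟩
    change c₀.baseChange B (a₀.baseChange B y'') = 0
    rw [← baseChange_comp_apply]
    have : c₀ ∘ₗ a₀ = 0 := LinearMap.ext fun m => by simp [c₀, a₀]
    simp [this]
  · have hz : ∀ j, kernel.ι (umap (d j).φ) ≫ umap (g j ≫ f) = 0 := fun j => by
      rw [show umap (g j ≫ f) = umap (g j) ≫ umap f from (underline A).map_comp _ _,
        ← Category.assoc, hg j, Category.assoc, hf, comp_zero]
    choose h hh using fun j => exists_factor_hom (d j) (g j ≫ f) (hz j)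
    let H : P' →ₗ[A] N := DirectSum.toModule A ι N fun j => (h j).hom
    have hHG : f.hom ∘ₗ G = H ∘ₗ Φ := DirectSum.linearMap_ext A fun j => LinearMap.ext fun p => by
      simp only [LinearMap.comp_apply, G, Φ, H, DirectSum.toModule_lof]
      refine (LinearMap.congr_fun (congrArg ModuleCat.Hom.hom (hh j)) p).symm.trans ?_
      exact (DirectSum.toModule_lof A (φ := fun j => (h j).hom) j _).symm
    refine ⟨ModuleCat.ofHom (R.liftQ (f.hom ∘ₗ LinearMap.snd A P' M - H ∘ₗ LinearMap.fst A P' M) ?_),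
      ModuleCat.hom_ext (LinearMap.ext fun m => ?_)⟩
    · rintro _ ⟨p, rfl⟩
      exact sub_eq_zero.2 (LinearMap.congr_fun hHG p)
    · simp [a₀]

end Groth.Agent.AdeqLib
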