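import Groth.Agent.AdeqLib.FamilyDescent
import Groth.Agent.AdeqLib.BC
import Mathlib.RingTheory.RingHom.FaithfullyFlat

/-!
# Descent of values of adequate functors along jointly faithfully flat families
-/

set_option backward.isDefEq.respectTransparency false

universe u w

open CategoryTheory Limits TensorProduct

namespace Groth.Agent.AdeqLib

open Adeq

variable {A : Type u} [CommRing A]

/-- A jointly faithfully flat family of maps of algebras out of `B`. -/
def JFF {B : Alg A} {κ : Type w} {C : κ → Alg A} (h : ∀ k, B ⟶ C k) : Prop :=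
  (∀ k, (h k).hom.toRingHom.Flat) ∧
    ∀ p : PrimeSpectrum (B : Type u), ∃ k q, PrimeSpectrum.comap (h k).hom.toRingHom q = p

theorem eq_zero_of_jointly {B : Type u} [CommRing B] {N : Type (u + 1)} [AddCommGroup N] [Module B N]
    {κ : Type w} (C : κ → Type u) [∀ k, CommRing (C k)] [∀ k, Algebra B (C k)]
    [∀ k, Module.Flat B (C k)]
    (hs : ∀ p : PrimeSpectrum B, ∃ k q, PrimeSpectrum.comap (algebraMap B (C k)) q = p)
    (x : N) (hx : ∀ k, (1 : C k) ⊗ₜ[B] x = 0) : x = 0 := by
  by_contra hne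
  have hI : LinearMap.ker (LinearMap.toSpanSingleton B N x) ≠ ⊤ := by
    intro h
    refine hne ?_
    have h1 : LinearMap.toSpanSingleton B N x 1 = 0 := LinearMap.mem_ker.1 (h ▸ Submodule.mem_top)
    simpa using h1
  obtain ⟨m, hm, hIm⟩ := Ideal.exists_le_maximal _ hI
  obtain ⟨k, q, hq⟩ := hs ⟨m, hm.isPrime⟩
  let I : Ideal B := LinearMap.ker (LinearMap.toSpanSingleton B N x)
  let e : (B ⧸ I) →ₗ[B] N := Submodule.liftQ I (LinearMap.toSpanSingleton B N x) le_rfl
  have he : Function.Injective e := LinearMap.ker_eq_bot.1 (Submodule.ker_liftQ_eq_bot _ _ _ le_rfl)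
  have h0 : (1 : C k) ⊗ₜ[B] (Ideal.Quotient.mk I (1 : B)) = 0 := by
    refine Module.Flat.lTensor_preserves_injective_linearMap (M := C k) e he ?_
    rw [map_zero, LinearMap.lTensor_tmul]
    refine Eq.trans (congrArg _ ?_) (hx k)
    change LinearMap.toSpanSingleton B N x 1 = x
    simp
  let f : B ⧸ I →ₐ[B] C k ⧸ q.asIdeal :=
    Ideal.Quotient.liftₐ I (Algebra.ofId B (C k ⧸ q.asIdeal)) fun b hb => by
      have : b ∈ m := hIm hb
      have hb' : algebraMap B (C k) b ∈ q.asIdeal := by
        have := congrArg PrimeSpectrum.asIdeal hq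
        simp only [PrimeSpectrum.comap_asIdeal] at this
        rw [← Ideal.mem_comap, this]
        assumption
      change Ideal.Quotient.mk q.asIdeal (algebraMap B (C k) b) = 0
      exact Ideal.Quotient.eq_zero_iff_mem.2 hb'
  have h1 : (Algebra.TensorProduct.lift (Ideal.Quotient.mkₐ B q.asIdeal) f (fun _ _ => .all _ _))
      ((1 : C k) ⊗ₜ[B] (Ideal.Quotient.mk I (1 : B))) = 1 := by
    rw [map_one]
    exact map_one _
  rw [h0, map_zero] at h1
  exact q.isPrime.ne_top ((Ideal.eq_top_iff_one _).2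
    (Ideal.Quotient.eq_zero_iff_mem.1 ((map_one _).trans h1.symm)))

/-- Values of adequate functors are separated for jointly faithfully flat families. -/
theorem eq_zero_of_family {F : MVF A} (hF : adequate A F) {B : Alg A} {κ : Type w} {C : κ → Alg A}
    (h : ∀ k, B ⟶ C k) (hh : JFF h) (x : F.obj (pt B))
    (hx : ∀ k, F.map (ptHom (h k)) x = 0) : x = 0 := by
  let _ : ∀ k, Algebra (B : Type u) (C k : Type u) := fun k => (h k).hom.toRingHom.toAlgebra
  have : ∀ k, Module.Flat (B : Type u) (C k : Type u) := fun k => hh.1 k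
  refine eq_zero_of_jointly (fun k => (C k : Type u)) hh.2 x fun k => ?_
  have : IsIso (F.bc (h k)) := isIso_bc hF (h k) (hh.1 k)
  refine ((ConcreteCategory.isIso_iff_bijective (F.bc (h k))).1 inferInstance).1 ?_
  refine (bc_tmul F (h k) 1 x).trans ?_
  rw [hx k, smul_zero]
  exact (map_zero (F.bc (h k)).hom).symm

/-- The map into a finite coproduct with given components. -/
noncomputable def sumMap {κ : Type (u + 1)} [Finite κ] (G : κ → MVF A) {F : MVF A} (η : ∀ i, F ⟶ G i) :
    F ⟶ ∐ G :=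
  letI := Fintype.ofFinite κ
  ∑ k, η k ≫ Sigma.ι G k

theorem sum_sigmaProj {κ : Type (u + 1)} [Finite κ] (G : κ → MVF A) {F : MVF A} (η : ∀ i, F ⟶ G i)
    (i : κ) : sumMap G η ≫ sigmaProj G i = η i := by
  classical
  dsimp only [sumMap]
  let := Fintype.ofFinite κ
  simp only [Preadditive.sum_comp, Category.assoc, ι_sigmaProj]
  rw [Finset.sum_eq_single i]
  · rw [Function.update_self, Category.comp_id]
  · intro k _ hk; rw [Function.update_of_ne hk, comp_zero]
  · intro h; exact absurd (Finset.mem_univ _) h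

theorem exists_sigma_apply {κ : Type (u + 1)} [Finite κ] (G : κ → MVF A) (B : Alg A)
    (y : ∀ i, (G i).obj (pt B)) : ∃ z, ∀ i, (sigmaProj G i).app (pt B) z = y i := by
  classical
  have := Fintype.ofFinite κ
  refine ⟨∑ k, (Sigma.ι G k).app (pt B) (y k), fun i => ?_⟩
  refine (map_sum ((sigmaProj G i).app (pt B)).hom _ _).trans ?_
  rw [Finset.sum_eq_single i]
  · change (Sigma.ι G i ≫ sigmaProj G i).app (pt B) (y i) = y i
    rw [ι_sigmaProj, Function.update_self]
    rfl
  · intro k _ hk
    change (Sigma.ι G k ≫ sigmaProj G i).app (pt B) (y k) = 0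
    rw [ι_sigmaProj, Function.update_of_ne hk]
    rfl
  · intro h; exact absurd (Finset.mem_univ _) h

/-- Transition maps as additive maps between the values. -/
noncomputable def fm (F : MVF A) {B C : Alg A} (h : B ⟶ C) : F.obj (pt B) →+ F.obj (pt C) :=
  AddMonoidHom.mk' (fun x => F.map (ptHom h) x) (fun x y => Fmap_add F h x y)

theorem fm_apply (F : MVF A) {B C : Alg A} (h : B ⟶ C) (x : F.obj (pt B)) :
    fm F h x = F.map (ptHom h) x := rfl

theorem fm_nat {F G : MVF A} (φ : F ⟶ G) {B C : Alg A} (h : B ⟶ C) (x : F.obj (pt B)) :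
    φ.app (pt C) (fm F h x) = fm G h (φ.app (pt B) x) := nat_apply φ h x

theorem fm_comm (F : MVF A) {B B₁ B₂ C : Alg A} {h : B ⟶ B₁} {h' : B₁ ⟶ C} {g : B ⟶ B₂} {g' : B₂ ⟶ C}
    (e : h ≫ h' = g ≫ g') (x : F.obj (pt B)) : fm F h' (fm F h x) = fm F g' (fm F g x) :=
  Fmap_map_of_eq F e x

section Family

variable {ι : Type u} (R' : ι → Type u) [∀ i, CommRing (R' i)] [∀ i, Algebra A (R' i)]

/-- All base changes of the family `A → R' i` are jointly faithfully flat. -/
def FFFam : Prop := ∀ B : Alg A, JFF (fun i => Alg.unit A (R' i) B)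

variable [Finite ι]

/-- The target of `η`: the finite sum of the `push (restr F)`. -/
noncomputable abbrev gF (F : MVF A) : MVF A := ∐ fun i : ULift.{u + 1} ι => (pr R' i.down).obj F

/-- `F → ⊕ᵢ push (restr F)`. -/
noncomputable def etaFam (F : MVF A) : F ⟶ gF R' F :=
  sumMap (fun i : ULift.{u + 1} ι => (pr R' i.down).obj F) (fun i => descUnit (R' i.down) F)

/-- The projections of `gF`. -/
noncomputable abbrev gProj (F : MVF A) (i : ι) : gF R' F ⟶ (pr R' i).obj F :=
  sigmaProj (fun i : ULift.{u + 1} ι => (pr R' i.down).obj F) ⟨i⟩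

theorem etaFam_gProj (F : MVF A) (i : ι) : etaFam R' F ≫ gProj R' F i = descUnit (R' i) F :=
  sum_sigmaProj (fun i : ULift.{u + 1} ι => (pr R' i.down).obj F) (fun i => descUnit (R' i.down) F) ⟨i⟩

theorem gProj_eta_apply (F : MVF A) (i : ι) (B : Alg A) (x : F.obj (pt B)) :
    (gProj R' F i).app (pt B) ((etaFam R' F).app (pt B) x) = fm F (Alg.unit A (R' i) B) x :=
  (congrArg (fun q : F ⟶ (pr R' i).obj F => q.app (pt B) x) (etaFam_gProj R' F i) :)

theorem gF_ext (F : MVF A) {B : Alg A} (z z' : (gF R' F).obj (pt B))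
    (h : ∀ i, (gProj R' F i).app (pt B) z = (gProj R' F i).app (pt B) z') : z = z' := by
  refine sub_eq_zero.1 (sigma_eq_zero _ B _ fun i => ?_)
  refine (map_sub ((gProj R' F i.down).app (pt B)).hom z z').trans (sub_eq_zero.2 (h i.down))

theorem exists_gF (F : MVF A) (B : Alg A) (y : ∀ i, F.obj (pt (bcAlg R' i B))) :
    ∃ z, ∀ i, (gProj R' F i).app (pt B) z = y i :=
  let ⟨z, hz⟩ := exists_sigma_apply (fun i : ULift.{u + 1} ι => (pr R' i.down).obj F) B (fun i => y i.down)
  ⟨z, fun i => hz ⟨i⟩⟩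

omit [Finite ι] in
theorem gProj_map (F : MVF A) (i : ι) {B C : Alg A} (h : B ⟶ C) (z : (gF R' F).obj (pt B)) :
    (gProj R' F i).app (pt C) (fm (gF R' F) h z) =
      fm F (bcMap R' i h) ((gProj R' F i).app (pt B) z) :=
  nat_apply (gProj R' F i) h z

omit [Finite ι] in
theorem adequate_gF {F : MVF A} (hF : adequate A F) : adequate A (gF R' F) :=
  adequate_sigma _ fun _ => adequate_push (adequate_restr hF)

variable {R'} (hR : FFFam (A := A) R') {F : MVF A} (hF : adequate A F)
include hR hF

theorem eta_injective (B : Alg A) (x : F.obj (pt B)) (hx : (etaFam R' F).app (pt B) x = 0) : x = 0 := by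
  refine eq_zero_of_family hF _ (hR B) x fun i => ?_
  refine (gProj_eta_apply R' F i B x).symm.trans ?_
  rw [hx, map_zero]

omit hR in
theorem adequate_coker_eta : adequate A (cokernel (etaFam R' F)) :=
  adequate_cokernel (covered_of_adequate hF) (adequate_gF R' hF) _

/-- Values of adequate functors glue along jointly faithfully flat families. -/
theorem exists_glue_family (B : Alg A) (y : ∀ i, F.obj (pt (bcAlg R' i B)))
    (hy : ∀ i j, fm F (bcMap R' i (Alg.unit A (R' j) B)) (y i) =
      fm F (Alg.unit A (R' i) (bcAlg R' j B)) (y j)) :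
    ∃ x, ∀ i, fm F (Alg.unit A (R' i) B) x = y i := by
  obtain ⟨z, hz⟩ := exists_gF R' F B y
  have hq : (cokernel.π (etaFam R' F)).app (pt B) z = 0 := by
    refine eq_zero_of_family (adequate_coker_eta hF) _ (hR B) _ fun k => ?_
    have he : fm (gF R' F) (Alg.unit A (R' k) B) z =
        (etaFam R' F).app (pt (bcAlg R' k B)) (y k) := gF_ext R' F _ _ fun i => by
      rw [gProj_map, hz, gProj_eta_apply, hy]
    change fm (cokernel (etaFam R' F)) _ _ = 0
    rw [← fm_nat, he]
    exact app_apply_of_comp_zero (cokernel.condition _) _ _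
  obtain ⟨x, hx⟩ := exists_of_cokernel_π_eq_zero _ _ z hq
  exact ⟨x, fun i => by rw [← gProj_eta_apply, hx, hz]⟩

set_option maxHeartbeats 1000000 in
/-- The first Čech cohomology of an adequate functor along a jointly faithfully flat family vanishes. -/
theorem exists_of_cocycle (B : Alg A) (c : ∀ i j, F.obj (pt (bcAlg R' i (bcAlg R' j B))))
    (hc : ∀ k i j, fm F (bcMap R' k (Alg.unit A (R' i) (bcAlg R' j B))) (c k j) =
      fm F (bcMap R' k (bcMap R' i (Alg.unit A (R' j) B))) (c k i) +
        fm F (Alg.unit A (R' k) (bcAlg R' i (bcAlg R' j B))) (c i j)) :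
    ∃ f : ∀ i, F.obj (pt (bcAlg R' i B)), ∀ i j, c i j =
      fm F (Alg.unit A (R' i) (bcAlg R' j B)) (f j) -
        fm F (bcMap R' i (Alg.unit A (R' j) B)) (f i) := by
  choose m hm using fun i => exists_gF R' F (bcAlg R' i B) (fun k => c k i)
  have hd : ∀ i j, fm (gF R' F) (Alg.unit A (R' i) (bcAlg R' j B)) (m j) =
      fm (gF R' F) (bcMap R' i (Alg.unit A (R' j) B)) (m i) +
        (etaFam R' F).app (pt _) (c i j) := fun i j => gF_ext R' F _ _ fun k => by
    rw [map_add, gProj_map, gProj_map, gProj_eta_apply, hm, hm]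
    exact hc k i j
  let π := cokernel.π (etaFam R' F)
  obtain ⟨q0, hq0⟩ := exists_glue_family hR (adequate_coker_eta hF) B
    (fun i => π.app (pt (bcAlg R' i B)) (m i)) (fun i j => by
      rw [← fm_nat π, ← fm_nat π, hd i j, map_add,
        app_apply_of_comp_zero (cokernel.condition (etaFam R' F)), add_zero])
  obtain ⟨z, rfl⟩ := cokernel_π_surjective (etaFam R' F) (pt B) q0
  have hk : ∀ i, ∃ x, (etaFam R' F).app (pt (bcAlg R' i B)) x =
      m i - fm (gF R' F) (Alg.unit A (R' i) B) z := fun i => by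
    refine exists_of_cokernel_π_eq_zero _ _ _ ?_
    rw [map_sub, fm_nat, hq0 i, sub_self]
  choose f hf using hk
  refine ⟨f, fun i j => sub_eq_zero.1 (eta_injective hR hF _ _ ?_)⟩
  rw [map_sub, map_sub, fm_nat, fm_nat, hf, hf, map_sub, map_sub, hd,
    fm_comm (gF R' F) (unit_naturality (R' i) (Alg.unit A (R' j) B)) z]
  abel

end Family

end Groth.Agent.AdeqLib
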