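import Groth.Agent.AdeqLib.Cover
import Mathlib.CategoryTheory.Limits.Preserves.Over
import Mathlib.Algebra.Category.Ring.FilteredColimits
import Mathlib.CategoryTheory.Limits.Types.Filtered

/-!
# Adequate functors commute with filtered colimits
-/

set_option backward.isDefEq.respectTransparency false

universe u w

open CategoryTheory Limits TensorProduct

namespace Groth.Agent.AdeqLib

open Adeq

/-- A cocone of abelian groups over a filtered category which is jointly surjective and detects zero at a
later stage is a colimit. -/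
noncomputable def isColimitAb {J : Type u} [SmallCategory J] [IsFiltered J] {D : J ⥤ AddCommGrpCat.{w}}
    (c : Cocone D) (hsurj : ∀ x : c.pt, ∃ (j : J) (y : D.obj j), c.ι.app j y = x)
    (hzero : ∀ (j : J) (y : D.obj j), c.ι.app j y = 0 → ∃ (k : J) (f : j ⟶ k), D.map f y = 0) :
    IsColimit c := by
  choose jx yx hyx using hsurj
  have hwd : ∀ (s : Cocone D) (i j : J) (a : D.obj i) (b : D.obj j),
      c.ι.app i a = c.ι.app j b → s.ι.app i a = s.ι.app j b := by
    intro s i j a b h
    let k := IsFiltered.max i j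
    have hw : ∀ (s : Cocone D) (a : D.obj i), s.ι.app k (D.map (IsFiltered.leftToMax i j) a) = s.ι.app i a :=
      fun s a => ConcreteCategory.congr_hom (s.w (IsFiltered.leftToMax i j)) a
    have hw' : ∀ (s : Cocone D) (b : D.obj j), s.ι.app k (D.map (IsFiltered.rightToMax i j) b) = s.ι.app j b :=
      fun s b => ConcreteCategory.congr_hom (s.w (IsFiltered.rightToMax i j)) b
    obtain ⟨l, f, hf⟩ := hzero k (D.map (IsFiltered.leftToMax i j) a - D.map (IsFiltered.rightToMax i j) b)
      (by rw [map_sub, hw, hw', h, sub_self])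
    have h2 : s.ι.app l (D.map f (D.map (IsFiltered.leftToMax i j) a - D.map (IsFiltered.rightToMax i j) b)) = 0 := by
      rw [hf, map_zero]
    have hw'' : ∀ z : D.obj k, s.ι.app l (D.map f z) = s.ι.app k z :=
      fun z => ConcreteCategory.congr_hom (s.w f) z
    rw [hw'', map_sub, hw, hw', sub_eq_zero] at h2
    exact h2
  exact
    { desc := fun s => AddCommGrpCat.ofHom
        { toFun := fun x => s.ι.app (jx x) (yx x)
          map_zero' := by
            rw [hwd s (jx 0) (jx 0) (yx 0) 0 (by rw [hyx, map_zero]), map_zero]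
          map_add' := fun x y => by
            let k := IsFiltered.max (jx x) (jx y)
            have e1 : ∀ (s : Cocone D), s.ι.app k (D.map (IsFiltered.leftToMax (jx x) (jx y)) (yx x)) =
              s.ι.app (jx x) (yx x) := fun s => ConcreteCategory.congr_hom (s.w _) _
            have e2 : ∀ (s : Cocone D), s.ι.app k (D.map (IsFiltered.rightToMax (jx x) (jx y)) (yx y)) =
              s.ι.app (jx y) (yx y) := fun s => ConcreteCategory.congr_hom (s.w _) _
            rw [hwd s (jx (x + y)) k (yx (x + y))
              (D.map (IsFiltered.leftToMax (jx x) (jx y)) (yx x) +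
                D.map (IsFiltered.rightToMax (jx x) (jx y)) (yx y))
              (by rw [hyx, map_add, e1, e2, hyx, hyx]), map_add, e1, e2] }
      fac := fun s j => by
        ext a
        exact hwd s _ _ _ _ (hyx _)
      uniq := fun s m hm => by
        ext x
        change m x = s.ι.app (jx x) (yx x)
        rw [← hm (jx x)]
        exact congrArg m (hyx x).symm }

variable {A : Type u} [CommRing A] {J : Type u} [SmallCategory J] [IsFiltered J]
  (D : J ⥤ Alg A) (c : Cocone D)

/-- The forgetful functor from algebras to types, through rings under `A`. -/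
noncomputable abbrev algForget : Alg A ⥤ Type u :=
  (commAlgCatEquivUnder (CommRingCat.of A)).functor ⋙ Under.forget _ ⋙ forget CommRingCat

variable {D c}

variable (c) in
/-- A leg of the cocone, with constant target. -/
abbrev aleg (j : J) : D.obj j ⟶ c.pt := c.ι.app j

omit [IsFiltered J] in
variable (c) in
theorem aleg_w {i k : J} (f : i ⟶ k) : D.map f ≫ aleg c k = aleg c i := c.w f

theorem alg_jointly_surjective (hc : IsColimit c) (b : (c.pt : Type u)) :
    ∃ (j : J) (y : (D.obj j : Type u)), (aleg c j).hom y = b := by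
  have : PreservesColimitsOfShape J (Under.forget (CommRingCat.of A)) :=
    PreservesFilteredColimitsOfSize.preserves_filtered_colimits J
  obtain ⟨j, y, hy⟩ := Types.jointly_surjective _ (isColimitOfPreserves algForget hc) b
  exact ⟨j, y, hy⟩

theorem alg_eq_later (hc : IsColimit c) {i : J} (x y : (D.obj i : Type u))
    (h : (aleg c i).hom x = (aleg c i).hom y) :
    ∃ (k : J) (f : i ⟶ k), (D.map f).hom x = (D.map f).hom y := by
  have : PreservesColimitsOfShape J (Under.forget (CommRingCat.of A)) :=
    PreservesFilteredColimitsOfSize.preserves_filtered_colimits J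
  exact (Types.FilteredColimit.isColimit_eq_iff' (isColimitOfPreserves algForget hc) x y).1 h

section Tensor

variable (M : Type (u + 1)) [AddCommGroup M] [Module A M]

omit [IsFiltered J] in
theorem rTensor_w {i k : J} (f : i ⟶ k) (z : (D.obj i : Type u) ⊗[A] M) :
    (aleg c k).hom.toLinearMap.rTensor M ((D.map f).hom.toLinearMap.rTensor M z) =
      (aleg c i).hom.toLinearMap.rTensor M z := by
  rw [← LinearMap.rTensor_comp_apply, ← AlgHom.comp_toLinearMap, ← CommAlgCat.hom_comp, aleg_w c f]

omit [IsFiltered J] in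
theorem rTensor_trans {i j k : J} (f : i ⟶ j) (g : j ⟶ k) (z : (D.obj i : Type u) ⊗[A] M) :
    (D.map g).hom.toLinearMap.rTensor M ((D.map f).hom.toLinearMap.rTensor M z) =
      (D.map (f ≫ g)).hom.toLinearMap.rTensor M z := by
  rw [← LinearMap.rTensor_comp_apply, ← AlgHom.comp_toLinearMap, ← CommAlgCat.hom_comp, ← D.map_comp]

theorem tensor_jointly_surjective (hc : IsColimit c) (z : (c.pt : Type u) ⊗[A] M) :
    ∃ (j : J) (y : (D.obj j : Type u) ⊗[A] M), (aleg c j).hom.toLinearMap.rTensor M y = z := by
  induction z using TensorProduct.induction_on with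
  | zero => exact ⟨IsFiltered.nonempty.some, 0, map_zero _⟩
  | tmul b m =>
    obtain ⟨j, y, hy⟩ := alg_jointly_surjective hc b
    exact ⟨j, y ⊗ₜ[A] m, by simp [hy]⟩
  | add x y hx hy =>
    obtain ⟨i, x', hx'⟩ := hx
    obtain ⟨j, y', hy'⟩ := hy
    refine ⟨IsFiltered.max i j, (D.map (IsFiltered.leftToMax i j)).hom.toLinearMap.rTensor M x' +
      (D.map (IsFiltered.rightToMax i j)).hom.toLinearMap.rTensor M y', ?_⟩
    rw [map_add, rTensor_w, rTensor_w, hx', hy']

theorem exists_zero_later_finsupp (hc : IsColimit c) (ι : Type (u + 1)) {i : J}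
    (z : (D.obj i : Type u) ⊗[A] (ι →₀ A))
    (h : (aleg c i).hom.toLinearMap.rTensor _ z = 0) :
    ∃ (k : J) (f : i ⟶ k), (D.map f).hom.toLinearMap.rTensor _ z = 0 := by
  classical
  let b : Module.Basis ι A (ι →₀ A) := Finsupp.basisSingleOne
  have hnat : ∀ (B B' : Alg A) (g : B ⟶ B') (z : (B : Type u) ⊗[A] (ι →₀ A)) (m : ι),
      (Algebra.TensorProduct.basis (B' : Type u) b).repr (g.hom.toLinearMap.rTensor _ z) m =
        g.hom ((Algebra.TensorProduct.basis (B : Type u) b).repr z m) := by
    intro B B' g z m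
    induction z using TensorProduct.induction_on with
    | zero => simp
    | tmul r v => simp [Algebra.TensorProduct.basis_repr_tmul]
    | add x y hx hy => simp [hx, hy]
  let co := (Algebra.TensorProduct.basis (D.obj i : Type u) b).repr z
  have key : ∀ s : Finset ι, ∃ (k : J) (f : i ⟶ k), ∀ m ∈ s, (D.map f).hom (co m) = 0 := by
    intro s
    induction s using Finset.induction_on with
    | empty => exact ⟨i, 𝟙 i, fun m hm => absurd hm (Finset.notMem_empty m)⟩
    | insert m s hm ih =>
      obtain ⟨k, f, hf⟩ := ih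
      have h0 : (aleg c k).hom ((D.map f).hom (co m)) = (aleg c k).hom 0 := by
        rw [map_zero, ← AlgHom.comp_apply, ← CommAlgCat.hom_comp, aleg_w c f, ← hnat, h]
        simp
      obtain ⟨l, g, hg⟩ := alg_eq_later hc _ _ h0
      refine ⟨l, f ≫ g, fun m' hm' => ?_⟩
      rw [D.map_comp, CommAlgCat.hom_comp, AlgHom.comp_apply]
      rcases Finset.mem_insert.1 hm' with rfl | hm'
      · rw [hg, map_zero]
      · rw [hf m' hm', map_zero]
  obtain ⟨k, f, hf⟩ := key co.support
  refine ⟨k, f, (Algebra.TensorProduct.basis (D.obj k : Type u) b).repr.injective ?_⟩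
  rw [map_zero]
  refine Finsupp.ext fun m => ?_
  rw [hnat, Finsupp.zero_apply]
  by_cases hm : m ∈ co.support
  · exact hf m hm
  · exact (congrArg _ (Finsupp.notMem_support_iff.1 hm)).trans (map_zero _)

theorem zero_later_of_exact {K F₀ : Type (u + 1)} [AddCommGroup K] [Module A K] [AddCommGroup F₀]
    [Module A F₀] (u₁ : K →ₗ[A] F₀) (v : F₀ →ₗ[A] M) (hex : Function.Exact u₁ v)
    (hv : Function.Surjective v) (hc : IsColimit c)
    (hF₀ : ∀ {i : J} (z : (D.obj i : Type u) ⊗[A] F₀), (aleg c i).hom.toLinearMap.rTensor F₀ z = 0 →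
      ∃ (k : J) (f : i ⟶ k), (D.map f).hom.toLinearMap.rTensor F₀ z = 0)
    {i : J} (y : (D.obj i : Type u) ⊗[A] M) (h : (aleg c i).hom.toLinearMap.rTensor M y = 0) :
    ∃ (k : J) (f : i ⟶ k), (D.map f).hom.toLinearMap.rTensor M y = 0 := by
  obtain ⟨z, rfl⟩ := surjective_baseChange hv (D.obj i : Type u) y
  obtain ⟨w, hw⟩ := (exact_baseChange hex hv (c.pt : Type u)
    ((aleg c i).hom.toLinearMap.rTensor F₀ z)).1 (by rw [baseChange_rTensor, h])
  obtain ⟨j, w', rfl⟩ := tensor_jointly_surjective K hc w
  let z' := (D.map (IsFiltered.leftToMax i j)).hom.toLinearMap.rTensor F₀ z -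
    u₁.baseChange (D.obj (IsFiltered.max i j) : Type u)
      ((D.map (IsFiltered.rightToMax i j)).hom.toLinearMap.rTensor K w')
  obtain ⟨l, g, hg⟩ := hF₀ z' (by
    rw [map_sub, rTensor_w, ← baseChange_rTensor, rTensor_w, ← hw, sub_self])
  refine ⟨l, IsFiltered.leftToMax i j ≫ g, ?_⟩
  rw [← baseChange_rTensor, ← rTensor_trans]
  have h1 := congrArg (v.baseChange (D.obj l : Type u)) hg
  rw [map_sub, ← baseChange_rTensor, map_sub, map_zero, ← baseChange_comp_apply,
    hex.linearMap_comp_eq_zero] at h1
  simpa using h1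

theorem tensor_zero_later (hc : IsColimit c) {i : J} (y : (D.obj i : Type u) ⊗[A] M)
    (h : (aleg c i).hom.toLinearMap.rTensor M y = 0) :
    ∃ (k : J) (f : i ⟶ k), (D.map f).hom.toLinearMap.rTensor M y = 0 :=
  @zero_later_of_exact A _ J _ _ D c M _ _ ↥(LinearMap.ker (Finsupp.linearCombination A (id : M → M)))
    (M →₀ A) (LinearMap.ker (Finsupp.linearCombination A (id : M → M))).addCommGroup
    (LinearMap.ker (Finsupp.linearCombination A (id : M → M))).module _ _
    (LinearMap.ker (Finsupp.linearCombination A (id : M → M))).subtype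
    (Finsupp.linearCombination A (id : M → M)) (LinearMap.exact_subtype_ker_map _)
    (fun m => ⟨Finsupp.single m 1, by simp⟩) hc
    (fun z hz => exists_zero_later_finsupp hc M z hz) i y h

end Tensor

theorem nonempty_isColimit_mapCocone {F : MVF A} (hF : adequate A F) (hc : IsColimit c) :
    Nonempty (IsColimit (F.toAb.mapCocone c)) := by
  obtain ⟨M, N, g, i, hi⟩ := exists_isKerU hF
  refine ⟨isColimitAb _ (fun x => ?_) (fun j y hy => ?_)⟩
  · change ∃ (j : J) (y : F.obj (pt (D.obj j))), F.map (ptHom (aleg c j)) y = x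
    obtain ⟨j, w, hw⟩ := tensor_jointly_surjective M hc (i.app (pt c.pt) x)
    obtain ⟨k, f, hk⟩ := tensor_zero_later N hc (g.hom.baseChange (D.obj j : Type u) w) (by
      rw [← baseChange_rTensor, hw]
      exact hi.app_eq_zero c.pt x)
    obtain ⟨y, hy⟩ := (hi.iff (D.obj k) ((D.map f).hom.toLinearMap.rTensor M w)).1 (by
      rw [baseChange_rTensor, hk])
    refine ⟨k, y, hi.inj c.pt ?_⟩
    rw [IsKerU.nat i (aleg c k) y, hy, rTensor_w, hw]
  · change F.map (ptHom (aleg c j)) y = 0 at hy
    change ∃ (k : J) (f : j ⟶ k), F.map (ptHom (D.map f)) y = 0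
    obtain ⟨k, f, hf⟩ := tensor_zero_later M hc (i.app (pt (D.obj j)) y) (by
      rw [← IsKerU.nat i (aleg c j) y, hy]
      exact map_zero _)
    refine ⟨k, f, hi.inj (D.obj k) ?_⟩
    rw [IsKerU.nat i (D.map f) y, hf]
    exact (map_zero _).symm

end Groth.Agent.AdeqLib
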