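import Groth.Agent.AdeqLib.Basic
import Mathlib.RingTheory.MvPolynomial.Basic
import Mathlib.RingTheory.Polynomial.Basic
import Mathlib.Algebra.MvPolynomial.Eval
import Mathlib.Algebra.Polynomial.AlgebraMap
import Mathlib.RingTheory.TensorProduct.Free

/-!
# Linearly adequate functors: the universal element and natural maps out of them
-/

universe u

open CategoryTheory Limits TensorProduct

namespace Groth.Agent.AdeqLib

open Adeq

variable {A : Type u} [CommRing A]

section Univ

variable {n m : ℕ} (a : Fin n → Fin m → A)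

/-- The `j`-th linear form. -/
noncomputable def ell (j : Fin m) : MvPolynomial (Fin n) A :=
  ∑ i, MvPolynomial.C (a i j) * MvPolynomial.X i

/-- Linear combinations of the linear forms. -/
noncomputable def relMap : (Fin m → MvPolynomial (Fin n) A) →ₗ[A] MvPolynomial (Fin n) A :=
  ∑ j, (LinearMap.mulRight A (ell a j)) ∘ₗ LinearMap.proj j

theorem relMap_apply (p : Fin m → MvPolynomial (Fin n) A) : relMap a p = ∑ j, p j * ell a j := by
  simp [relMap]

/-- The ideal generated by the linear forms. -/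
noncomputable def relIdeal : Ideal (MvPolynomial (Fin n) A) := Ideal.span (Set.range (ell a))

/-- The algebra representing the linearly adequate functor of `a`. -/
abbrev UnivAlg : Type u := MvPolynomial (Fin n) A ⧸ relIdeal a

/-- The coordinates of the universal element. -/
noncomputable def xbar (i : Fin n) : UnivAlg a := Ideal.Quotient.mk _ (MvPolynomial.X i)

/-- The quotient map. -/
noncomputable def qmap : MvPolynomial (Fin n) A →ₐ[A] UnivAlg a := Ideal.Quotient.mkₐ A (relIdeal a)

theorem qmap_X (i : Fin n) : qmap a (MvPolynomial.X i) = xbar a i := rfl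

theorem qmap_surjective : Function.Surjective (qmap a) := Ideal.Quotient.mkₐ_surjective A _

theorem exact_relMap : Function.Exact (relMap a) (qmap a).toLinearMap := by
  intro p
  change Ideal.Quotient.mk (relIdeal a) p = 0 ↔ _
  rw [Ideal.Quotient.eq_zero_iff_mem, relIdeal, Ideal.mem_span_range_iff_exists_fun]
  constructor
  · rintro ⟨c, rfl⟩; exact ⟨c, relMap_apply a c⟩
  · rintro ⟨c, rfl⟩; exact ⟨c, (relMap_apply a c).symm⟩

theorem qmap_ell (j : Fin m) : qmap a (ell a j) = 0 :=
  Ideal.Quotient.eq_zero_iff_mem.2 (Ideal.subset_span ⟨j, rfl⟩)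

theorem sum_smul_xbar (j : Fin m) : ∑ i, a i j • xbar a i = 0 := by
  rw [← qmap_ell a j, ell, map_sum]
  exact Finset.sum_congr rfl fun i _ => by
    rw [MvPolynomial.C_mul', map_smul, qmap_X]

theorem aeval_ell {B : Type u} [CommRing B] [Algebra A B] (b : Fin n → B) (j : Fin m) :
    MvPolynomial.aeval b (ell a j) = ∑ i, a i j • b i := by
  rw [ell, map_sum]
  exact Finset.sum_congr rfl fun i _ => by
    rw [map_mul, MvPolynomial.aeval_C, MvPolynomial.aeval_X, Algebra.smul_def]

/-- The algebra map classifying a point of the linearly adequate functor. -/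
noncomputable def classify {B : Type u} [CommRing B] [Algebra A B] (b : Fin n → B)
    (hb : ∀ j, ∑ i, a i j • b i = 0) : UnivAlg a →ₐ[A] B :=
  Ideal.Quotient.liftₐ _ (MvPolynomial.aeval b) (by
    have : relIdeal a ≤ RingHom.ker (MvPolynomial.aeval b : MvPolynomial (Fin n) A →ₐ[A] B) :=
      Ideal.span_le.2 (by rintro _ ⟨j, rfl⟩; exact (aeval_ell a b j).trans (hb j))
    exact fun x hx => this hx)

theorem classify_xbar {B : Type u} [CommRing B] [Algebra A B] (b : Fin n → B)
    (hb : ∀ j, ∑ i, a i j • b i = 0) (i : Fin n) : classify a b hb (xbar a i) = b i :=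
  MvPolynomial.aeval_X b i

theorem univ_algHom_ext {B : Type u} [CommRing B] [Algebra A B] {h h' : UnivAlg a →ₐ[A] B}
    (e : ∀ i, h (xbar a i) = h' (xbar a i)) : h = h' :=
  Ideal.Quotient.algHom_ext A (MvPolynomial.algHom_ext fun i => e i)

/-- Multiplying the universal element by the polynomial variable. -/
noncomputable def scaleHom : UnivAlg a →ₐ[A] Polynomial (UnivAlg a) :=
  classify a (fun i => Polynomial.X * Polynomial.C (xbar a i)) (fun j => by
    have h := congrArg (fun c => Polynomial.X * Polynomial.C c) (sum_smul_xbar a j)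
    simpa [map_sum, Finset.mul_sum, ← Polynomial.smul_C, mul_smul_comm] using h)

theorem scaleHom_xbar (i : Fin n) :
    scaleHom a (xbar a i) = Polynomial.X * Polynomial.C (xbar a i) :=
  classify_xbar a _ _ i

theorem coeff_zero_scaleHom (p : MvPolynomial (Fin n) A) :
    (scaleHom a (qmap a p)).coeff 0 = MvPolynomial.constantCoeff p • (1 : UnivAlg a) := by
  induction p using MvPolynomial.induction_on with
  | C c => rw [← MvPolynomial.algebraMap_eq, AlgHom.commutes, AlgHom.commutes]
           simp [Polynomial.algebraMap_apply, Algebra.algebraMap_eq_smul_one]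
  | add p q hp hq => simp [hp, hq, add_smul]
  | mul_X p k hp =>
    rw [map_mul, map_mul, qmap_X, scaleHom_xbar, ← mul_assoc, Polynomial.coeff_mul_C,
      Polynomial.coeff_mul_X_zero, zero_mul, map_mul, MvPolynomial.constantCoeff_X, mul_zero,
      zero_smul]

/-- The linear coefficient of a polynomial at the variable `i`. -/
noncomputable def linCoeff (i : Fin n) : MvPolynomial (Fin n) A →ₗ[A] A :=
  MvPolynomial.lcoeff A (Finsupp.single i 1)

theorem linCoeff_apply (i : Fin n) (p : MvPolynomial (Fin n) A) :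
    linCoeff i p = MvPolynomial.coeff (Finsupp.single i 1) p := rfl

theorem linCoeff_C (i : Fin n) (c : A) : linCoeff i (MvPolynomial.C c) = 0 := by
  classical
  rw [linCoeff_apply, MvPolynomial.coeff_C, if_neg]
  exact fun h => one_ne_zero (Finsupp.single_eq_zero.1 h.symm)

theorem linCoeff_mul_X (i k : Fin n) (p : MvPolynomial (Fin n) A) :
    linCoeff i (p * MvPolynomial.X k) = if k = i then MvPolynomial.constantCoeff p else 0 := by
  classical
  rw [linCoeff_apply, MvPolynomial.coeff_mul_X']
  rcases eq_or_ne k i with rfl | hne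
  · simp [MvPolynomial.constantCoeff_eq]
  · rw [if_neg (by simpa [Finsupp.support_single] using hne), if_neg hne]

theorem linCoeff_mul_ell (i : Fin n) (j : Fin m) (p : MvPolynomial (Fin n) A) :
    linCoeff i (p * ell a j) = a i j * MvPolynomial.constantCoeff p := by
  rw [ell, Finset.mul_sum, map_sum, Finset.sum_eq_single i]
  · rw [← mul_assoc, linCoeff_mul_X, if_pos rfl, map_mul, MvPolynomial.constantCoeff_C, mul_comm]
  · intro k _ hk
    rw [← mul_assoc, linCoeff_mul_X, if_neg hk]
  · intro h; exact absurd (Finset.mem_univ i) h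

theorem linCoeff_X (i k : Fin n) :
    linCoeff i (MvPolynomial.X k : MvPolynomial (Fin n) A) = if k = i then 1 else 0 := by
  simpa using linCoeff_mul_X i k (1 : MvPolynomial (Fin n) A)

theorem coeff_one_scaleHom (p : MvPolynomial (Fin n) A) :
    (scaleHom a (qmap a p)).coeff 1 = ∑ i, linCoeff i p • xbar a i := by
  induction p using MvPolynomial.induction_on with
  | C c => rw [← MvPolynomial.algebraMap_eq, AlgHom.commutes, AlgHom.commutes]
           simp [MvPolynomial.algebraMap_eq, linCoeff_C, Polynomial.algebraMap_apply]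
  | add p q hp hq => simp [hp, hq, add_smul, Finset.sum_add_distrib]
  | mul_X p k hp =>
    rw [map_mul, map_mul, qmap_X, scaleHom_xbar, ← mul_assoc, Polynomial.coeff_mul_C,
      Polynomial.coeff_mul_X, coeff_zero_scaleHom, smul_one_mul]
    simp [linCoeff_mul_X, ite_smul]

variable {M : Type (u + 1)} [AddCommGroup M] [Module A M]

/-- The linear coefficient at `i`, tensored with `M`. -/
noncomputable def linPart (i : Fin n) : MvPolynomial (Fin n) A ⊗[A] M →ₗ[A] M :=
  (TensorProduct.lid A M).toLinearMap ∘ₗ (linCoeff i).rTensor M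

theorem linPart_tmul (i : Fin n) (p : MvPolynomial (Fin n) A) (x : M) :
    linPart i (p ⊗ₜ[A] x) = linCoeff i p • x := by simp [linPart]

/-- An element killed in the universal algebra comes from the relations. -/
theorem exists_of_sum_xbar_tmul_eq_zero (v : Fin n → M) (h : ∑ i, xbar a i ⊗ₜ[A] v i = 0) :
    ∃ w : Fin m → M, ∀ i, v i = ∑ j, a i j • w j := by
  have h0 : (qmap a).toLinearMap.rTensor M (∑ i, MvPolynomial.X i ⊗ₜ[A] v i) = 0 := by
    rw [map_sum]; simpa [qmap_X] using h
  obtain ⟨z, hz⟩ := (rTensor_exact M (exact_relMap a) (qmap_surjective a) _).1 h0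
  let K : Fin m → (Fin m → MvPolynomial (Fin n) A) ⊗[A] M →ₗ[A] M := fun j =>
    (TensorProduct.lid A M).toLinearMap ∘ₗ
      ((MvPolynomial.lcoeff A 0) ∘ₗ LinearMap.proj j).rTensor M
  refine ⟨fun j => K j z, fun i => ?_⟩
  have key : linPart i ∘ₗ (relMap a).rTensor M = ∑ j, a i j • K j := by
    refine TensorProduct.ext' fun p x => ?_
    simp only [LinearMap.comp_apply, LinearMap.rTensor_tmul, linPart_tmul, relMap_apply, map_sum,
      Finset.sum_smul, linCoeff_mul_ell, LinearMap.sum_apply, LinearMap.smul_apply, K]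
    exact Finset.sum_congr rfl fun j _ => by
      simp [smul_smul, MvPolynomial.constantCoeff_eq]
  have h2 := LinearMap.congr_fun key z
  rw [LinearMap.comp_apply, hz, map_sum] at h2
  simp only [linPart_tmul, linCoeff_X, ite_smul, one_smul, zero_smul] at h2
  simpa [LinearMap.sum_apply] using h2

/-- An element homogeneous of degree one is linear. -/
theorem exists_linear_of_scale (ω : UnivAlg a ⊗[A] M)
    (h : (scaleHom a).toLinearMap.rTensor M ω = (Polynomial.X : Polynomial (UnivAlg a)) •
      ((Polynomial.CAlgHom : UnivAlg a →ₐ[UnivAlg a] _).restrictScalars A).toLinearMap.rTensor M ω) :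
    ∃ v : Fin n → M, ω = ∑ i, xbar a i ⊗ₜ[A] v i := by
  let L : Polynomial (UnivAlg a) ⊗[A] M →ₗ[A] UnivAlg a ⊗[A] M :=
    ((Polynomial.lcoeff (UnivAlg a) 1).restrictScalars A).rTensor M
  have h1 : ∀ z : UnivAlg a ⊗[A] M, L ((Polynomial.X : Polynomial (UnivAlg a)) •
      ((Polynomial.CAlgHom : UnivAlg a →ₐ[UnivAlg a] _).restrictScalars A).toLinearMap.rTensor M z)
        = z := by
    intro z
    induction z using TensorProduct.induction_on with
    | zero => simp
    | tmul c x => simp [L, TensorProduct.smul_tmul']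
    | add x y hx hy => rw [map_add, smul_add, map_add, hx, hy]
  have h2 : L ((scaleHom a).toLinearMap.rTensor M ω) = ω := by rw [h, h1]
  obtain ⟨z, hz⟩ := LinearMap.rTensor_surjective M (g := (qmap a).toLinearMap) (qmap_surjective a) ω
  refine ⟨fun i => linPart i z, ?_⟩
  conv_lhs => rw [← h2, ← hz]
  clear h h2 hz
  induction z using TensorProduct.induction_on with
  | zero => simp
  | tmul p x =>
    simp only [L, LinearMap.rTensor_tmul, LinearMap.restrictScalars_apply, Polynomial.lcoeff_apply,
      AlgHom.toLinearMap_apply, coeff_one_scaleHom, TensorProduct.sum_tmul, linPart_tmul,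
      TensorProduct.tmul_smul, TensorProduct.smul_tmul']
  | add x y hx hy => simp [hx, hy, tmul_add, Finset.sum_add_distrib]

end Univ

section Coordinates

variable {n m : ℕ} {P P' : Type (u + 1)} [AddCommGroup P] [Module A P] [AddCommGroup P'] [Module A P']
  (e : Module.Basis (Fin n) A P) (f : Module.Basis (Fin m) A P') (φ₀ : P →ₗ[A] P')

/-- The matrix of `φ₀`. -/
noncomputable def coefMat : Fin n → Fin m → A := fun i j => f.repr (φ₀ (e i)) j

/-- The universal element. -/
noncomputable def univElt : UnivAlg (coefMat e f φ₀) ⊗[A] P :=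
  ∑ i, xbar (coefMat e f φ₀) i ⊗ₜ[A] e i

variable {B : Type u} [CommRing B] [Algebra A B]

theorem eq_sum_repr_tmul (y : B ⊗[A] P) :
    y = ∑ i, (Algebra.TensorProduct.basis B e).repr y i ⊗ₜ[A] e i := by
  conv_lhs => rw [← (Algebra.TensorProduct.basis B e).sum_repr y]
  simp [TensorProduct.smul_tmul']

theorem baseChange_sum_tmul (b : Fin n → B) :
    φ₀.baseChange B (∑ i, b i ⊗ₜ[A] e i) =
      ∑ j, (∑ i, coefMat e f φ₀ i j • b i) ⊗ₜ[A] f j := by
  simp only [map_sum, LinearMap.baseChange_tmul, TensorProduct.sum_tmul]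
  rw [Finset.sum_comm]
  refine Finset.sum_congr rfl fun i _ => ?_
  conv_lhs => rw [← f.sum_repr (φ₀ (e i))]
  rw [TensorProduct.tmul_sum]
  exact Finset.sum_congr rfl fun j _ => (TensorProduct.smul_tmul _ _ _).symm

theorem baseChange_univElt : φ₀.baseChange _ (univElt e f φ₀) = 0 := by
  rw [univElt, baseChange_sum_tmul e f φ₀]
  simp [sum_smul_xbar]

theorem repr_sum_tmul (b : Fin n → B) (k : Fin n) :
    (Algebra.TensorProduct.basis B e).repr (∑ i, b i ⊗ₜ[A] e i) k = b k := by
  classical
  simp [Finsupp.single_apply]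

theorem coord_rel (y : B ⊗[A] P) (hy : φ₀.baseChange B y = 0) (j : Fin m) :
    ∑ i, coefMat e f φ₀ i j • (Algebra.TensorProduct.basis B e).repr y i = 0 := by
  rw [eq_sum_repr_tmul e y, baseChange_sum_tmul e f φ₀] at hy
  have h := congrArg (fun z => (Algebra.TensorProduct.basis B f).repr z j) hy
  simp only [repr_sum_tmul, map_zero, Finsupp.zero_apply] at h
  exact h

theorem exists_classify (y : B ⊗[A] P) (hy : φ₀.baseChange B y = 0) :
    ∃! h : UnivAlg (coefMat e f φ₀) →ₐ[A] B, h.toLinearMap.rTensor P (univElt e f φ₀) = y := by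
  refine ⟨classify _ _ (coord_rel e f φ₀ y hy), ?_, fun h hh => univ_algHom_ext _ fun i => ?_⟩
  · change (classify _ _ _).toLinearMap.rTensor P (univElt e f φ₀) = y
    rw [univElt, map_sum]
    simp only [LinearMap.rTensor_tmul, AlgHom.toLinearMap_apply, classify_xbar]
    exact (eq_sum_repr_tmul e y).symm
  · rw [classify_xbar, ← hh, univElt, map_sum]
    simp only [LinearMap.rTensor_tmul, AlgHom.toLinearMap_apply]
    exact (repr_sum_tmul e (fun i => h (xbar (coefMat e f φ₀) i)) i).symm

end Coordinates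

section Natural

variable {P P' M : Type (u + 1)} [AddCommGroup P] [Module A P] [AddCommGroup P'] [Module A P']
  [AddCommGroup M] [Module A M] [Module.Finite A P] [Module.Free A P] [Module.Finite A P']
  [Module.Free A P'] (φ₀ : P →ₗ[A] P')

theorem exists_fin_basis (Q : Type (u + 1)) [AddCommGroup Q] [Module A Q] [Module.Finite A Q]
    [Module.Free A Q] : ∃ k : ℕ, Nonempty (Module.Basis (Fin k) A Q) :=
  ⟨_, ⟨(Module.Free.chooseBasis A Q).reindex (Fintype.equivFin _)⟩⟩

/-- A natural family, compatible with scalars, on the kernel of a map of finite free modules, is linear. -/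
theorem exists_eq_baseChange (φ : ∀ B : Alg A, B ⊗[A] P → B ⊗[A] M)
    (hnat : ∀ ⦃B B' : Alg A⦄ (h : B ⟶ B') (y : B ⊗[A] P), φ₀.baseChange B y = 0 →
      φ B' (h.hom.toLinearMap.rTensor P y) = h.hom.toLinearMap.rTensor M (φ B y))
    (hsmul : ∀ (B : Alg A) (b : B) (y : B ⊗[A] P), φ₀.baseChange B y = 0 → φ B (b • y) = b • φ B y) :
    ∃ g : P →ₗ[A] M, ∀ (B : Alg A) (y : B ⊗[A] P), φ₀.baseChange B y = 0 →
      φ B y = g.baseChange B y := by
  obtain ⟨n, ⟨e⟩⟩ := exists_fin_basis (A := A) P
  obtain ⟨m, ⟨f⟩⟩ := exists_fin_basis (A := A) P'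
  let a := coefMat e f φ₀
  let Cq : Alg A := algOf A (UnivAlg a)
  let ξ := univElt e f φ₀
  let Ct : Alg A := algOf A (Polynomial (UnivAlg a))
  let sc : Cq ⟶ Ct := CommAlgCat.ofHom (scaleHom a)
  let cc : Cq ⟶ Ct := CommAlgCat.ofHom
    ((Polynomial.CAlgHom : UnivAlg a →ₐ[UnivAlg a] _).restrictScalars A)
  have hξ : φ₀.baseChange _ ξ = 0 := baseChange_univElt e f φ₀
  have hξ' : φ₀.baseChange Ct (cc.hom.toLinearMap.rTensor P ξ) = 0 := by
    exact (baseChange_rTensor φ₀ cc.hom.toLinearMap ξ).trans ((congrArg _ hξ).trans (map_zero _))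
  have e1 : sc.hom.toLinearMap.rTensor P ξ =
      (Polynomial.X : Polynomial (UnivAlg a)) • cc.hom.toLinearMap.rTensor P ξ := by
    change (scaleHom a).toLinearMap.rTensor P (univElt e f φ₀) = _ •
      ((Polynomial.CAlgHom : UnivAlg a →ₐ[UnivAlg a] _).restrictScalars A).toLinearMap.rTensor P
        (univElt e f φ₀)
    simp [univElt, a, scaleHom_xbar, Finset.smul_sum, TensorProduct.smul_tmul']
  obtain ⟨v, hv⟩ := exists_linear_of_scale a (φ Cq ξ) (by
    change sc.hom.toLinearMap.rTensor M (φ Cq ξ) = (Polynomial.X : Polynomial (UnivAlg a)) •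
      cc.hom.toLinearMap.rTensor M (φ Cq ξ)
    rw [← hnat sc ξ hξ, ← hnat cc ξ hξ]
    exact (congrArg (φ Ct) e1).trans (hsmul Ct Polynomial.X _ hξ'))
  refine ⟨e.constr A v, fun B y hy => ?_⟩
  obtain ⟨h, hh, -⟩ := exists_classify e f φ₀ y hy
  have h3 : φ Cq ξ = (e.constr A v).baseChange _ ξ := by
    rw [hv]
    change _ = (e.constr A v).baseChange _ (univElt e f φ₀)
    simp [univElt, a]
  subst hh
  calc φ B (h.toLinearMap.rTensor P ξ)
      = h.toLinearMap.rTensor M (φ Cq ξ) := hnat (CommAlgCat.ofHom h : Cq ⟶ B) ξ hξ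
    _ = (e.constr A v).baseChange B (h.toLinearMap.rTensor P ξ) := by
      rw [h3, baseChange_rTensor]

/-- A linear map vanishing on all kernels factors through `φ₀`. -/
theorem exists_factor (g : P →ₗ[A] M)
    (hg : ∀ (B : Alg A) (y : B ⊗[A] P), φ₀.baseChange B y = 0 → g.baseChange B y = 0) :
    ∃ h : P' →ₗ[A] M, h ∘ₗ φ₀ = g := by
  obtain ⟨n, ⟨e⟩⟩ := exists_fin_basis (A := A) P
  obtain ⟨m, ⟨f⟩⟩ := exists_fin_basis (A := A) P'
  have h0 := hg (algOf A (UnivAlg (coefMat e f φ₀))) (univElt e f φ₀) (baseChange_univElt e f φ₀)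
  obtain ⟨w, hw⟩ := exists_of_sum_xbar_tmul_eq_zero (coefMat e f φ₀) (fun i => g (e i)) (by
    simpa [univElt] using h0)
  refine ⟨f.constr A w, e.ext fun i => ?_⟩
  rw [LinearMap.comp_apply, hw i, ← f.sum_repr (φ₀ (e i)), map_sum]
  simp [coefMat]

end Natural

end Groth.Agent.AdeqLib
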