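import Groth.Agent.AdeqLib.Closure
import Mathlib.Algebra.Polynomial.AlgebraMap
import Mathlib.Algebra.Polynomial.Basis

/-!
# Values on polynomial algebras and linear parts of natural families
-/

set_option backward.isDefEq.respectTransparency false

universe u

open CategoryTheory Limits TensorProduct

namespace Groth.Agent.AdeqLib

open Adeq

variable {A : Type u} [CommRing A]

/-- The polynomial algebra over `B`. -/
noncomputable abbrev polyAlg (B : Alg A) : Alg A := algOf A (Polynomial B)

/-- Constants. -/
noncomputable def polyC (B : Alg A) : B ⟶ polyAlg B :=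
  CommAlgCat.ofHom ((Polynomial.CAlgHom : B →ₐ[B] Polynomial B).restrictScalars A)

theorem polyC_apply (B : Alg A) (b : B) : (polyC B).hom b = Polynomial.C b := rfl

/-- The map on polynomials induced by a map of algebras. -/
noncomputable def polyMap {B B' : Alg A} (h : B ⟶ B') : polyAlg B ⟶ polyAlg B' :=
  CommAlgCat.ofHom (Polynomial.mapAlgHom h.hom)

theorem polyC_polyMap {B B' : Alg A} (h : B ⟶ B') : polyC B ≫ polyMap h = h ≫ polyC B' := by
  refine CommAlgCat.hom_ext (AlgHom.ext fun b => ?_)
  exact Polynomial.map_C h.hom.toRingHom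

theorem polyMap_X {B B' : Alg A} (h : B ⟶ B') : (polyMap h).hom Polynomial.X = Polynomial.X :=
  Polynomial.map_X h.hom.toRingHom

/-- Scaling the variable by `a`. -/
noncomputable def polyScale (B : Alg A) (a : B) : polyAlg B ⟶ polyAlg B :=
  CommAlgCat.ofHom ((Polynomial.aeval (Polynomial.C a * Polynomial.X) :
    Polynomial B →ₐ[B] Polynomial B).restrictScalars A)

theorem polyScale_X (B : Alg A) (a : B) :
    (polyScale B a).hom Polynomial.X = Polynomial.C a * Polynomial.X :=
  Polynomial.aeval_X _

theorem polyC_polyScale (B : Alg A) (a : B) : polyC B ≫ polyScale B a = polyC B := by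
  refine CommAlgCat.hom_ext (AlgHom.ext fun b => ?_)
  exact Polynomial.aeval_C _ b

section Comb

variable (F : MVF A) (B : Alg A)

/-- `x ↦ t^k • x`. -/
noncomputable def combTerm (k : ℕ) : F.obj (pt B) →+ F.obj (pt (polyAlg B)) where
  toFun x := ((Polynomial.X : Polynomial B) ^ k : polyAlg B) • F.map (ptHom (polyC B)) x
  map_zero' := by rw [Fmap_zero, smul_zero]
  map_add' x y := by rw [Fmap_add, smul_add]

/-- The map `⊕ₖ F(B) → F(B[t])`. -/
noncomputable def comb : (ℕ →₀ F.obj (pt B)) →+ F.obj (pt (polyAlg B)) :=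
  Finsupp.liftAddHom (combTerm F B)

theorem comb_single (k : ℕ) (x : F.obj (pt B)) :
    comb F B (Finsupp.single k x) =
      ((Polynomial.X : Polynomial B) ^ k : polyAlg B) • F.map (ptHom (polyC B)) x :=
  Finsupp.liftAddHom_apply_single _ _ _

/-- The values on polynomial algebras are the polynomial modules. -/
def HasPoly : Prop := ∀ B : Alg A, Function.Bijective (comb F B)

end Comb

variable {F G : MVF A}

theorem comb_app (φ : F ⟶ G) (B : Alg A) (v : ℕ →₀ F.obj (pt B)) :
    φ.app (pt (polyAlg B)) (comb F B v) =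
      comb G B (v.mapRange (φ.app (pt B)) (map_zero _)) := by
  induction v using Finsupp.induction_linear with
  | zero => simp
  | add v w hv hw => rw [map_add, map_add, hv, hw, Finsupp.mapRange_add (map_add _), map_add]
  | single k x =>
    rw [Finsupp.mapRange_single, comb_single, comb_single, app_smul, nat_apply]

theorem Fmap_comb {B B' : Alg A} (h : B ⟶ B') (v : ℕ →₀ F.obj (pt B)) :
    F.map (ptHom (polyMap h)) (comb F B v) =
      comb F B' (v.mapRange (F.map (ptHom h)) (Fmap_zero F h)) := by
  induction v using Finsupp.induction_linear with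
  | zero => simp only [Finsupp.mapRange_zero, map_zero, Fmap_zero]
  | add v w hv hw => rw [map_add, Fmap_add, hv, hw, Finsupp.mapRange_add (Fmap_add F h), map_add]
  | single k x =>
    rw [Finsupp.mapRange_single, comb_single, comb_single, Fmap_smul,
      Fmap_map_of_eq F (polyC_polyMap h), map_pow, polyMap_X]

theorem Fmap_scale_comb (B : Alg A) (a : B) (v : ℕ →₀ F.obj (pt B)) :
    F.map (ptHom (polyScale B a)) (comb F B v) = comb F B (v.sum fun k x => Finsupp.single k (a ^ k • x)) := by
  induction v using Finsupp.induction_linear with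
  | zero => rw [Finsupp.sum_zero_index, map_zero, map_zero]
  | add v w hv hw =>
    rw [map_add, Fmap_add, hv, hw, Finsupp.sum_add_index', map_add]
    · intro k; simp
    · intro k x y; rw [smul_add, Finsupp.single_add]
  | single k x =>
    rw [Finsupp.sum_single_index (by simp), comb_single, comb_single, Fmap_smul, ← Fmap_comp,
      polyC_polyScale, Fmap_smul, smul_smul, map_pow, polyScale_X, polyC_apply, mul_pow, mul_comm,
      map_pow]

/-- The coefficient of `t`. -/
noncomputable def coefOne (hF : HasPoly F) (B : Alg A) :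
    F.obj (pt (polyAlg B)) →+ F.obj (pt B) :=
  (Finsupp.applyAddHom 1).comp (AddEquiv.ofBijective _ (hF B)).symm.toAddMonoidHom

theorem coefOne_comb (hF : HasPoly F) (B : Alg A) (v : ℕ →₀ F.obj (pt B)) :
    coefOne hF B (comb F B v) = v 1 :=
  DFunLike.congr_fun ((AddEquiv.ofBijective _ (hF B)).symm_apply_apply v) 1

theorem coefOne_app (hF : HasPoly F) (hG : HasPoly G) (φ : F ⟶ G) (B : Alg A)
    (z : F.obj (pt (polyAlg B))) :
    coefOne hG B (φ.app (pt (polyAlg B)) z) = φ.app (pt B) (coefOne hF B z) := by
  obtain ⟨v, rfl⟩ := (hF B).2 z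
  rw [comb_app, coefOne_comb, coefOne_comb, Finsupp.mapRange_apply]

theorem coefOne_map (hF : HasPoly F) {B B' : Alg A} (h : B ⟶ B') (z : F.obj (pt (polyAlg B))) :
    coefOne hF B' (F.map (ptHom (polyMap h)) z) = F.map (ptHom h) (coefOne hF B z) := by
  obtain ⟨v, rfl⟩ := (hF B).2 z
  rw [Fmap_comb, coefOne_comb, coefOne_comb, Finsupp.mapRange_apply]

theorem coefOne_scale (hF : HasPoly F) (B : Alg A) (a : B) (z : F.obj (pt (polyAlg B))) :
    coefOne hF B (F.map (ptHom (polyScale B a)) z) = a • coefOne hF B z := by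
  classical
  obtain ⟨v, rfl⟩ := (hF B).2 z
  rw [Fmap_scale_comb, coefOne_comb, coefOne_comb, Finsupp.sum_apply]
  simp only [Finsupp.single_apply, Finsupp.sum_ite_eq', Finsupp.mem_support_iff, ne_eq, pow_one]
  split_ifs with h
  · rw [h, smul_zero]
  · rfl

theorem coefOne_X_smul (hF : HasPoly F) (B : Alg A) (x : F.obj (pt B)) :
    coefOne hF B ((Polynomial.X : polyAlg B) • F.map (ptHom (polyC B)) x) = x := by
  have h := coefOne_comb hF B (Finsupp.single 1 x)
  rw [comb_single, pow_one, Finsupp.single_eq_same] at h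
  exact h

theorem hasPoly_uobj (M : ModuleCat.{u + 1} A) : HasPoly (uobj M) := by
  classical
  intro B
  let mono (k : ℕ) : B ⊗[A] M →ₗ[A] Polynomial B ⊗[A] M :=
    ((Polynomial.monomial k : B →ₗ[B] Polynomial B).restrictScalars A).rTensor M
  let co (k : ℕ) : Polynomial B ⊗[A] M →ₗ[A] B ⊗[A] M :=
    ((Polynomial.lcoeff B k).restrictScalars A).rTensor M
  have hsingle : ∀ (k : ℕ) (x : B ⊗[A] M), comb (uobj M) B (Finsupp.single k x) = mono k x := by
    intro k x
    rw [comb_single]
    change ((Polynomial.X : Polynomial B) ^ k) •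
      ((polyC B).hom.toLinearMap.rTensor M x : Polynomial B ⊗[A] M) = mono k x
    induction x using TensorProduct.induction_on with
    | zero => simp
    | tmul b m =>
      simp only [mono, LinearMap.rTensor_tmul, TensorProduct.smul_tmul', AlgHom.toLinearMap_apply,
        polyC_apply, smul_eq_mul, LinearMap.restrictScalars_apply]
      rw [← Polynomial.C_mul_X_pow_eq_monomial, mul_comm]
      rfl
    | add x y hx hy => rw [map_add, smul_add, hx, hy, map_add]
  have hco : ∀ (j k : ℕ) (x : B ⊗[A] M), co j (mono k x) = if k = j then x else 0 := by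
    intro j k x
    induction x using TensorProduct.induction_on with
    | zero => simp
    | tmul b m => simp [co, mono, Polynomial.coeff_monomial, ite_tmul]
    | add x y hx hy => rw [map_add, map_add, hx, hy]; split_ifs <;> simp
  have hcomb : ∀ (v : ℕ →₀ (uobj M).obj (pt B)) (j : ℕ), co j (comb (uobj M) B v) = v j := by
    intro v j
    induction v using Finsupp.induction_linear with
    | zero => simp
    | add v w hv hw => rw [map_add, Finsupp.add_apply]; exact (map_add (co j) _ _).trans (congrArg₂ (· + ·) hv hw)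
    | single k x => rw [hsingle, hco, Finsupp.single_apply]
  refine ⟨fun v w hvw => Finsupp.ext fun j => ?_, fun z => ?_⟩
  · rw [← hcomb, hvw, hcomb]
  · have : ∀ w : Polynomial B ⊗[A] M, ∃ v, comb (uobj M) B v = w := by
      intro w
      induction w using TensorProduct.induction_on with
      | zero => exact ⟨0, map_zero _⟩
      | tmul p m =>
        induction p using Polynomial.induction_on' with
        | add p q hp hq =>
          obtain ⟨v, hv⟩ := hp
          obtain ⟨v', hv'⟩ := hq
          exact ⟨v + v', by rw [map_add, hv, hv', TensorProduct.add_tmul]⟩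
        | monomial k b =>
          exact ⟨Finsupp.single k (b ⊗ₜ[A] m), (hsingle k _).trans (by simp [mono])⟩
      | add x y hx hy =>
        obtain ⟨v, hv⟩ := hx
        obtain ⟨v', hv'⟩ := hy
        exact ⟨v + v', by rw [map_add, hv, hv']⟩
    exact this z

theorem hasPoly_of_isKerU {F : MVF A} {M N : ModuleCat.{u + 1} A} {i : F ⟶ uobj M} {f : M ⟶ N}
    (h : IsKerU i f) : HasPoly F := by
  intro B
  refine ⟨(injective_iff_map_eq_zero (comb F B)).2 fun v hv => ?_, fun y => ?_⟩
  · have h0 := comb_app i B v
    rw [hv, map_zero] at h0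
    have h1 := (hasPoly_uobj M B).1 (h0.symm.trans (map_zero _).symm)
    refine Finsupp.ext fun k => h.inj B ?_
    exact (DFunLike.congr_fun h1 k).trans (map_zero _).symm
  · obtain ⟨v, hv⟩ := (hasPoly_uobj M B).2 (i.app _ y)
    have h0 := comb_app (umap f) B v
    rw [hv] at h0
    have h1 := (hasPoly_uobj N B).1 ((h0.symm.trans (h.app_eq_zero (polyAlg B) y)).trans (map_zero _).symm)
    have h2 : ∀ k, ∃ x, i.app (pt B) x = v k := fun k => (h.iff B (v k)).1 (DFunLike.congr_fun h1 k)
    have hz : Function.invFun (i.app (pt B)) 0 = 0 :=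
      (congrArg _ (map_zero _).symm).trans (Function.leftInverse_invFun (h.inj B) 0)
    refine ⟨v.mapRange (Function.invFun (i.app (pt B))) hz, h.inj (polyAlg B) ?_⟩
    rw [comb_app, ← hv]
    refine congrArg _ (Finsupp.ext fun k => ?_)
    rw [Finsupp.mapRange_apply, Finsupp.mapRange_apply]
    exact Function.invFun_eq (h2 k)

theorem hasPoly_of_adequate {F : MVF A} (hF : adequate A F) : HasPoly F := by
  obtain ⟨M, N, f, i, hi⟩ := exists_isKerU hF
  exact hasPoly_of_isKerU hi

theorem hasPoly_of_exact {F G H : MVF A} (i : F ⟶ G) (p : G ⟶ H)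
    (hi : ∀ B : Alg A, Function.Injective (i.app (pt B)))
    (hp : ∀ B : Alg A, Function.Surjective (p.app (pt B)))
    (hex : ∀ (B : Alg A) (y : G.obj (pt B)), p.app (pt B) y = 0 ↔ ∃ x, i.app (pt B) x = y)
    (hF : HasPoly F) (hH : HasPoly H) : HasPoly G := by
  classical
  intro B
  let s : H.obj (pt B) → G.obj (pt B) := fun x => if x = 0 then 0 else (hp B x).choose
  have hs : ∀ x, p.app (pt B) (s x) = x := fun x => by
    by_cases hx : x = 0
    · simp [s, hx]
    · simp only [s, if_neg hx]; exact (hp B x).choose_spec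
  refine ⟨(injective_iff_map_eq_zero (comb G B)).2 fun v hv => ?_, fun y => ?_⟩
  · have h0 := comb_app p B v
    rw [hv, map_zero] at h0
    have h1 := (hH B).1 (h0.symm.trans (map_zero _).symm)
    have h2 : ∀ k, ∃ x, i.app (pt B) x = v k := fun k => (hex B _).1 (DFunLike.congr_fun h1 k)
    have hz : Function.invFun (i.app (pt B)) 0 = 0 :=
      (congrArg _ (map_zero _).symm).trans (Function.leftInverse_invFun (hi B) 0)
    let w := v.mapRange (Function.invFun (i.app (pt B))) hz
    have hw : w.mapRange (i.app (pt B)) (map_zero _) = v :=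
      Finsupp.ext fun k => by
        rw [Finsupp.mapRange_apply, Finsupp.mapRange_apply]
        exact Function.invFun_eq (h2 k)
    have h3 := comb_app i B w
    rw [hw, hv] at h3
    have h4 : w = 0 := (hF B).1 ((hi _ (h3.trans (map_zero _).symm)).trans (map_zero _).symm)
    rw [← hw, h4, Finsupp.mapRange_zero]
  · obtain ⟨v₃, hv₃⟩ := (hH B).2 (p.app _ y)
    let v₂ := v₃.mapRange s (by simp [s])
    have h0 : p.app (pt (polyAlg B)) (y - comb G B v₂) = 0 := by
      rw [map_sub, comb_app, ← hv₃, sub_eq_zero]
      refine congrArg _ (Finsupp.ext fun k => ?_)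
      rw [Finsupp.mapRange_apply, Finsupp.mapRange_apply, hs]
    obtain ⟨x, hx⟩ := (hex _ _).1 h0
    obtain ⟨w, rfl⟩ := (hF B).2 x
    refine ⟨v₂ + w.mapRange (i.app (pt B)) (map_zero _), ?_⟩
    rw [map_add, ← comb_app, hx, add_sub_cancel]

end Groth.Agent.AdeqLib
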