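import Groth.Prelude.Def_W4stkadequateTF
import Groth.Agent.AdeqLib.Basic
import Mathlib.CategoryTheory.Preadditive.Injective.Basic
import Mathlib.Data.Finsupp.Basic
import Mathlib.Algebra.Category.ModuleCat.Biproducts

/-!
# Tangent functors of module-valued functors
-/

set_option backward.isDefEq.respectTransparency false

universe u

open CategoryTheory Limits Adeq

namespace Groth.Agent.AdeqLib

variable {A : Type u} [CommRing A]

section Free

variable (D : Alg A)

/-- Values of the free functor on an algebra. -/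
abbrev FreeVal (X : (Alg A)ᵒᵖᵒᵖ) : Type (u + 1) := ULift.{u + 1} (D ⟶ X.unop.unop) →₀ X.unop.unop

/-- The transition maps of the free functor. -/
noncomputable def freeMap {X Y : (Alg A)ᵒᵖᵒᵖ} (g : X ⟶ Y) : FreeVal D X →+ FreeVal D Y :=
  (Finsupp.mapDomain.addMonoidHom (fun f : ULift.{u + 1} (D ⟶ X.unop.unop) => ULift.up (f.down ≫ g.unop.unop))).comp
    (Finsupp.mapRange.addMonoidHom g.unop.unop.hom.toAddMonoidHom)

theorem freeMap_single {X Y : (Alg A)ᵒᵖᵒᵖ} (g : X ⟶ Y) (f : ULift.{u + 1} (D ⟶ X.unop.unop))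
    (r : X.unop.unop) : freeMap D g (Finsupp.single f r) =
      Finsupp.single (ULift.up (f.down ≫ g.unop.unop)) (g.unop.unop.hom r) := by
  simp [freeMap]

/-- The underlying functor of the free functor. -/
noncomputable abbrev freeAb : (Alg A)ᵒᵖᵒᵖ ⥤ Ab.{u + 1} where
  obj X := AddCommGrpCat.of (FreeVal D X)
  map g := AddCommGrpCat.ofHom (freeMap D g)
  map_id X := by
    refine AddCommGrpCat.ext fun v => ?_
    induction v using Finsupp.induction_linear with
    | zero => simp
    | add v w hv hw => simp only [map_add, hv, hw]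
    | single f r =>
      change freeMap D (𝟙 X) (Finsupp.single f r) = Finsupp.single f r
      rw [freeMap_single]
      simp
  map_comp g g' := by
    refine AddCommGrpCat.ext fun v => ?_
    induction v using Finsupp.induction_linear with
    | zero => simp
    | add v w hv hw => simp only [map_add, hv, hw]
    | single f r =>
      change freeMap D (g ≫ g') (Finsupp.single f r) = freeMap D g' (freeMap D g (Finsupp.single f r))
      rw [freeMap_single, freeMap_single, freeMap_single]
      simp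

noncomputable instance (X : (Alg A)ᵒᵖᵒᵖ) : Module ((ringOf A).obj X) ((freeAb D).obj X) :=
  inferInstanceAs (Module (X.unop.unop : Type u) (FreeVal D X))

/-- The free module-valued functor on the functor represented by `D`. -/
noncomputable def freeMVF : MVF A :=
  PresheafOfModules.ofPresheaf (freeAb D) (fun X Y g r v => by
    change freeMap D g ((r : X.unop.unop) • (v : FreeVal D X)) = g.unop.unop.hom r • freeMap D g v
    induction (v : FreeVal D X) using Finsupp.induction_linear with
    | zero => simp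
    | add v w hv hw => rw [smul_add, map_add, map_add, hv, hw, smul_add]
    | single f s =>
      rw [Finsupp.smul_single, freeMap_single, freeMap_single, Finsupp.smul_single, smul_eq_mul,
        smul_eq_mul, map_mul])

variable {D}

/-- Precomposition. -/
noncomputable def freePre {D' : Alg A} (p : D ⟶ D') : freeMVF D' ⟶ freeMVF D :=
  mvfHomMk (fun B => (Finsupp.lmapDomain (B : Type u) (B : Type u)
      (fun f : ULift.{u + 1} (D' ⟶ B) => ULift.up (p ≫ f.down))))
    (fun B B' g v => by
      change Finsupp.mapDomain _ (freeMap D' g.op.op v) = freeMap D g.op.op (Finsupp.mapDomain _ v)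
      induction (v : FreeVal D' (pt B)) using Finsupp.induction_linear with
      | zero => simp
      | add v w hv hw =>
        rw [map_add, Finsupp.mapDomain_add, Finsupp.mapDomain_add, map_add, hv, hw]
      | single f s =>
        rw [freeMap_single, Finsupp.mapDomain_single, Finsupp.mapDomain_single, freeMap_single]
        simp)

/-- The map out of the free functor determined by an element. -/
noncomputable def freeDesc {F : MVF A} (x : F.obj (pt D)) : freeMVF D ⟶ F :=
  mvfHomMk (fun B => Finsupp.linearCombination (B : Type u)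
      (fun f : ULift.{u + 1} (D ⟶ B) => F.map (ptHom f.down) x))
    (fun B B' g v => by
      change Finsupp.linearCombination _ _ (freeMap D g.op.op v) =
        F.map (ptHom g) (Finsupp.linearCombination _ _ (v : FreeVal D (pt B)))
      induction (v : FreeVal D (pt B)) using Finsupp.induction_linear with
      | zero =>
        rw [map_zero, map_zero, map_zero]
        exact (Fmap_zero F g).symm
      | add v w hv hw => rw [map_add, map_add, map_add, hv, hw, Fmap_add]
      | single f s =>
        rw [freeMap_single, Finsupp.linearCombination_single, Finsupp.linearCombination_single,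
          Fmap_smul, ← Fmap_comp]
        rfl)

/-- An injective functor sends surjections of algebras to surjections. -/
theorem surjective_map_of_injective (I : MVF A) [Injective I] {D' : Alg A} (p : D ⟶ D')
    (hp : Function.Surjective p.hom) : Function.Surjective (I.map (ptHom p)) := by
  intro y
  have : Mono (freePre p) := PresheafOfModules.mono_of_injective fun X =>
    Finsupp.mapDomain_injective fun a b h => by
      refine ULift.ext _ _ (CommAlgCat.hom_ext (DFunLike.ext _ _ fun r => ?_))
      obtain ⟨s, rfl⟩ := hp r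
      exact congrArg (fun q : ULift.{u + 1} (D ⟶ X.unop.unop) => q.down.hom s) h
  obtain ⟨ψ, hψ⟩ := Injective.factors (freeDesc y) (freePre p)
  let one : ∀ D : Alg A, (freeMVF D).obj (pt D) := fun D =>
    (Finsupp.single (ULift.up (𝟙 D)) (1 : D) : FreeVal D (pt D))
  refine ⟨ψ.app (pt D) (one D), ?_⟩
  rw [← nat_apply ψ p]
  have e : (freeMVF D).map (ptHom p) (one D) = (freePre p).app (pt D') (one D') := by
    change freeMap D p.op.op (Finsupp.single (ULift.up (𝟙 D)) (1 : D)) =
      Finsupp.mapDomain _ (Finsupp.single (ULift.up (𝟙 D')) (1 : D'))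
    rw [freeMap_single, Finsupp.mapDomain_single]
    simp
  rw [e, ← app_comp_apply, hψ]
  change Finsupp.linearCombination _ _ (Finsupp.single (ULift.up (𝟙 D')) (1 : D')) = y
  rw [Finsupp.linearCombination_single, one_smul]
  exact Fmap_id I (B := D') y

end Free

section Chases

open AdeqTF

variable (B : Alg A)

theorem tmap_val (F : MVF A) {N N' : ModuleCat.{u} B} (g : N ⟶ N') (x : tangent B N F) :
    (tangentMap B F g x : F.obj (pt (ext B N'))) = F.map (ptHom (AdeqTF.map B g)) x := rfl

theorem tmap_comp (F : MVF A) {N N' N'' : ModuleCat.{u} B} (g : N ⟶ N') (h : N' ⟶ N'')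
    (x : tangent B N F) : tangentMap B F h (tangentMap B F g x) = tangentMap B F (g ≫ h) x := by
  refine Subtype.ext ?_
  rw [tmap_val, tmap_val, tmap_val, ← Fmap_comp]
  refine congrArg (fun q : ext B N ⟶ ext B N'' => F.map (ptHom q) (x : F.obj (pt (ext B N)))) ?_
  refine CommAlgCat.hom_ext (DFunLike.ext _ _ fun z => ?_)
  exact (AlgHom.congr_fun (TrivSqZeroExt.map_comp_map g.hom h.hom) z).symm

theorem tmap_id (F : MVF A) (N : ModuleCat.{u} B) (x : tangent B N F) :
    tangentMap B F (𝟙 N) x = x := by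
  refine Subtype.ext ?_
  rw [tmap_val]
  have : AdeqTF.map B (𝟙 N) = 𝟙 (ext B N) :=
    CommAlgCat.hom_ext (DFunLike.ext _ _ fun z => AlgHom.congr_fun (TrivSqZeroExt.map_id) z)
  rw [this]
  exact Fmap_id F _

theorem tmap_zero (F : MVF A) {N N' : ModuleCat.{u} B} (x : tangent B N F) :
    tangentMap B F (0 : N ⟶ N') x = 0 := by
  refine Subtype.ext ?_
  rw [tmap_val]
  have : AdeqTF.map B (0 : N ⟶ N') = fst B N ≫ inl B N' := by
    refine CommAlgCat.hom_ext (DFunLike.ext _ _ fun z => ?_)
    refine TrivSqZeroExt.ext ?_ ?_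
    · exact (TrivSqZeroExt.fst_map (0 : N →ₗ[(B : Type u)] N') z).trans rfl
    · exact (TrivSqZeroExt.snd_map (0 : N →ₗ[(B : Type u)] N') z).trans rfl
  rw [this, Fmap_comp, show F.map (ptHom (fst B N)) (x : F.obj (pt (ext B N))) = 0 from x.2, Fmap_zero]
  rfl

theorem tmap_range_le_ker (F : MVF A) (S : ShortComplex (ModuleCat.{u} B)) :
    (tangentMap B F S.f).range ≤ (tangentMap B F S.g).ker := by
  rintro _ ⟨x, rfl⟩
  exact (tmap_comp B F S.f S.g x).trans (by rw [S.zero, tmap_zero])

/-- The map of tangent modules induced by a morphism of functors. -/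
noncomputable def tangentApp {F G : MVF A} (φ : F ⟶ G) (N : ModuleCat.{u} B) :
    tangent B N F →+ tangent B N G :=
  ((φ.app (pt (ext B N))).hom.toAddMonoidHom.comp (tangent B N F).subtype).codRestrict (tangent B N G)
    (fun x => by
      change G.map (ptHom (fst B N)) (φ.app (pt (ext B N)) x) = 0
      rw [← nat_apply, show F.map (ptHom (fst B N)) (x : F.obj (pt (ext B N))) = 0 from x.2]
      exact map_zero _)

theorem tangentApp_nat {F G : MVF A} (φ : F ⟶ G) {N N' : ModuleCat.{u} B} (g : N ⟶ N')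
    (x : tangent B N F) :
    tangentApp B φ N' (tangentMap B F g x) = tangentMap B G g (tangentApp B φ N x) :=
  Subtype.ext (nat_apply φ (AdeqTF.map B g) _)

variable {C : ShortComplex (MVF A)} (hC : C.ShortExact)
include hC

theorem tangentApp_injective (N : ModuleCat.{u} B) : Function.Injective (tangentApp B C.f N) := by
  have := hC.mono_f
  exact fun x y h => Subtype.ext (PresheafOfModules.injective_of_mono C.f _ (congrArg Subtype.val h))

theorem tangentApp_surjective (N : ModuleCat.{u} B) : Function.Surjective (tangentApp B C.g N) := by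
  have := hC.epi_g
  intro y
  obtain ⟨x, hx⟩ := PresheafOfModules.surjective_of_epi C.g (pt (ext B N)) y.1
  let c : C.X₂.obj (pt (ext B N)) := C.X₂.map (ptHom (inl B N)) (C.X₂.map (ptHom (fst B N)) x)
  let x' := x - c
  have hx' : C.X₂.map (ptHom (fst B N)) x' = 0 := by
    have e : inl B N ≫ fst B N = 𝟙 B := CommAlgCat.hom_ext (DFunLike.ext _ _ fun b => rfl)
    refine (map_sub (C.X₂.map (ptHom (fst B N))).hom _ _).trans (sub_eq_zero.2 ?_)
    exact ((Fmap_comp C.X₂ (inl B N) (fst B N) _).symm.trans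
      ((congrArg (fun q : B ⟶ B => C.X₂.map (ptHom q) (C.X₂.map (ptHom (fst B N)) x)) e).trans (Fmap_id _ _))).symm
  refine ⟨⟨x', hx'⟩, Subtype.ext ?_⟩
  change C.g.app (pt (ext B N)) x' = y.1
  refine (map_sub (C.g.app (pt (ext B N))).hom _ _).trans ?_
  refine (congrArg₂ (· - ·) hx ((nat_apply C.g (inl B N) _).trans
    (congrArg _ ((nat_apply C.g (fst B N) x).trans ((congrArg _ hx).trans y.2))))).trans ?_
  rw [Fmap_zero, sub_zero]

theorem tangentApp_exact (N : ModuleCat.{u} B) (y : tangent B N C.X₂)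
    (hy : tangentApp B C.g N y = 0) : ∃ x, tangentApp B C.f N x = y := by
  have := hC.mono_f
  obtain ⟨x, hx⟩ := pw_of_exact (w := C.zero) hC.exact (pt (ext B N)) y.1 (congrArg Subtype.val hy)
  refine ⟨⟨x, ?_⟩, Subtype.ext hx⟩
  change C.X₁.map (ptHom (fst B N)) x = 0
  refine PresheafOfModules.injective_of_mono C.f (pt B) ?_
  rw [nat_apply, hx, map_zero]
  exact y.2

omit hC in
theorem tangentApp_comp_zero (N : ModuleCat.{u} B) (x : tangent B N C.X₁) :
    tangentApp B C.g N (tangentApp B C.f N x) = 0 :=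
  Subtype.ext (app_apply_of_comp_zero C.zero _ _)

theorem rightExact_X₃ (S : ShortComplex (ModuleCat.{u} B))
    (h₁ : Function.Surjective (tangentMap B C.X₁ S.g))
    (h₂ : Function.Surjective (tangentMap B C.X₂ S.g) ∧
      (tangentMap B C.X₂ S.g).ker = (tangentMap B C.X₂ S.f).range) :
    Function.Surjective (tangentMap B C.X₃ S.g) ∧
      (tangentMap B C.X₃ S.g).ker = (tangentMap B C.X₃ S.f).range := by
  refine ⟨fun y => ?_, le_antisymm (fun y hy => ?_) (tmap_range_le_ker B C.X₃ S)⟩
  · obtain ⟨x, rfl⟩ := tangentApp_surjective B hC S.X₃ y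
    obtain ⟨x', rfl⟩ := h₂.1 x
    exact ⟨tangentApp B C.g S.X₂ x', (tangentApp_nat B C.g S.g x').symm⟩
  · obtain ⟨x, rfl⟩ := tangentApp_surjective B hC S.X₂ y
    obtain ⟨w, hw⟩ := tangentApp_exact B hC S.X₃ (tangentMap B C.X₂ S.g x)
      ((tangentApp_nat B C.g S.g x).trans hy)
    obtain ⟨w', rfl⟩ := h₁ w
    have : x - tangentApp B C.f S.X₂ w' ∈ (tangentMap B C.X₂ S.g).ker := by
      rw [AddMonoidHom.mem_ker, map_sub, ← tangentApp_nat, hw, sub_self]
    rw [h₂.2] at this
    obtain ⟨v, hv⟩ := this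
    refine ⟨tangentApp B C.g S.X₁ v, ?_⟩
    rw [← tangentApp_nat, hv, map_sub, tangentApp_comp_zero B, sub_zero]

theorem rightExact_X₂ (S : ShortComplex (ModuleCat.{u} B))
    (h₁ : Function.Surjective (tangentMap B C.X₁ S.g) ∧
      (tangentMap B C.X₁ S.g).ker = (tangentMap B C.X₁ S.f).range)
    (h₃ : Function.Surjective (tangentMap B C.X₃ S.g) ∧
      (tangentMap B C.X₃ S.g).ker = (tangentMap B C.X₃ S.f).range) :
    Function.Surjective (tangentMap B C.X₂ S.g) ∧
      (tangentMap B C.X₂ S.g).ker = (tangentMap B C.X₂ S.f).range := by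
  refine ⟨fun y => ?_, le_antisymm (fun x hx => ?_) (tmap_range_le_ker B C.X₂ S)⟩
  · obtain ⟨z, hz⟩ := h₃.1 (tangentApp B C.g S.X₃ y)
    obtain ⟨x, rfl⟩ := tangentApp_surjective B hC S.X₂ z
    obtain ⟨w, hw⟩ := tangentApp_exact B hC S.X₃ (y - tangentMap B C.X₂ S.g x)
      (by rw [map_sub, tangentApp_nat, hz, sub_self])
    obtain ⟨w', rfl⟩ := h₁.1 w
    refine ⟨x + tangentApp B C.f S.X₂ w', ?_⟩
    rw [map_add, ← tangentApp_nat, hw, add_sub_cancel]
  · rw [AddMonoidHom.mem_ker] at hx
    have h : tangentApp B C.g S.X₂ x ∈ (tangentMap B C.X₃ S.g).ker := by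
      rw [AddMonoidHom.mem_ker, ← tangentApp_nat, hx, map_zero]
    rw [h₃.2] at h
    obtain ⟨v, hv⟩ := h
    obtain ⟨v', rfl⟩ := tangentApp_surjective B hC S.X₁ v
    obtain ⟨w, hw⟩ := tangentApp_exact B hC S.X₂ (x - tangentMap B C.X₂ S.f v')
      (by rw [map_sub, tangentApp_nat, hv, sub_self])
    have : w ∈ (tangentMap B C.X₁ S.g).ker := by
      refine tangentApp_injective B hC S.X₃ ?_
      rw [tangentApp_nat, hw, map_sub, hx, tmap_range_le_ker B C.X₂ S ⟨v', rfl⟩, sub_zero, map_zero]
    rw [h₁.2] at this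
    obtain ⟨t, rfl⟩ := this
    refine ⟨v' + tangentApp B C.f S.X₁ t, ?_⟩
    rw [map_add, ← tangentApp_nat, hw, add_sub_cancel]

end Chases

theorem tangent_coprod_bijective (B : Alg A) (F : MVF A)
    (hF : ∀ (S : ShortComplex (ModuleCat.{u} B)), S.ShortExact →
      (AdeqTF.tangentMap B F S.g).ker = (AdeqTF.tangentMap B F S.f).range)
    (N₁ N₂ : ModuleCat.{u} B) :
    Function.Bijective ((AdeqTF.tangentMap B F (biprod.inl : N₁ ⟶ N₁ ⊞ N₂)).coprod
      (AdeqTF.tangentMap B F (biprod.inr : N₂ ⟶ N₁ ⊞ N₂))) := by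
  refine ⟨(injective_iff_map_eq_zero _).2 fun ⟨a, b⟩ h => ?_, fun x => ?_⟩
  · have h0 : AdeqTF.tangentMap B F (biprod.inl : N₁ ⟶ N₁ ⊞ N₂) a +
        AdeqTF.tangentMap B F (biprod.inr : N₂ ⟶ N₁ ⊞ N₂) b = 0 := h
    have e1 := congrArg (AdeqTF.tangentMap B F (biprod.fst : N₁ ⊞ N₂ ⟶ N₁)) h0
    have e2 := congrArg (AdeqTF.tangentMap B F (biprod.snd : N₁ ⊞ N₂ ⟶ N₂)) h0
    rw [map_add, tmap_comp, tmap_comp, biprod.inl_fst, biprod.inr_fst, tmap_id, tmap_zero,
      add_zero, map_zero] at e1
    rw [map_add, tmap_comp, tmap_comp, biprod.inl_snd, biprod.inr_snd, tmap_id, tmap_zero,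
      zero_add, map_zero] at e2
    exact Prod.ext e1 e2
  · let S : ShortComplex (ModuleCat.{u} B) :=
      ShortComplex.mk (biprod.inl : N₁ ⟶ N₁ ⊞ N₂) (biprod.snd : N₁ ⊞ N₂ ⟶ N₂) biprod.inl_snd
    have hS : S.ShortExact :=
      ShortComplex.Splitting.shortExact
        { r := biprod.fst, s := biprod.inr, f_r := biprod.inl_fst, s_g := biprod.inr_snd,
          id := biprod.total }
    let b := AdeqTF.tangentMap B F (biprod.snd : N₁ ⊞ N₂ ⟶ N₂) x
    have h0 : x - AdeqTF.tangentMap B F (biprod.inr : N₂ ⟶ N₁ ⊞ N₂) b ∈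
        (AdeqTF.tangentMap B F S.g).ker := by
      rw [AddMonoidHom.mem_ker, map_sub, tmap_comp]
      change b - AdeqTF.tangentMap B F ((biprod.inr : N₂ ⟶ N₁ ⊞ N₂) ≫ biprod.snd) b = 0
      rw [biprod.inr_snd, tmap_id, sub_self]
    rw [hF S hS] at h0
    obtain ⟨a, ha⟩ := h0
    refine ⟨(a, b), ?_⟩
    change AdeqTF.tangentMap B F S.f a + AdeqTF.tangentMap B F (biprod.inr : N₂ ⟶ N₁ ⊞ N₂) b = x
    rw [ha, sub_add_cancel]

theorem tangentMap_surjective_of_injective (I : MVF A) [Injective I] (B : Alg A)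
    {N N' : ModuleCat.{u} B} (g : N ⟶ N') (hg : Function.Surjective g.hom) :
    Function.Surjective (AdeqTF.tangentMap B I g) := by
  intro y
  have hp : Function.Surjective (AdeqTF.map B g).hom := fun z => by
    obtain ⟨n, hn⟩ := hg z.snd
    exact ⟨TrivSqZeroExt.inl z.fst + TrivSqZeroExt.inr n, TrivSqZeroExt.ext
      ((TrivSqZeroExt.fst_map g.hom _).trans (by simp))
      ((TrivSqZeroExt.snd_map g.hom _).trans (by simp [hn]))⟩
  obtain ⟨z, hz⟩ := surjective_map_of_injective I (AdeqTF.map B g) hp y.1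
  refine ⟨⟨z, ?_⟩, Subtype.ext hz⟩
  change I.map (ptHom (AdeqTF.fst B N)) z = 0
  rw [← AdeqTF.map_fst B g, Fmap_comp, hz]
  exact y.2

end Groth.Agent.AdeqLib
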